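import Cfsg.Agent.Lib.Spor.DoubleAlt.Pairs
import Cfsg.Agent.Lib.Perm.Fpf.Solvable

/-!
# Degrees at least twelve

A conjugate of `z` in the centralizer moves exactly eight points, and then `n ≤ 11`: in both cases
a property of `z` in `C(z) ∩ C(w)` fails for `x` in `C(z) ∩ C(x)`.
-/

set_option autoImplicit false
set_option linter.style.haveILetI false
set_option linter.unusedSectionVars false

open Equiv Equiv.Perm
open scoped commutatorElement

namespace Cfsg.Agent.Spor.DoubleAlt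

universe u

namespace DAlt

variable {G : Type u} [Group G] [Finite G] {n t : ℕ} (D : DAlt G n)

/-- The flips give a normal two-subgroup whose derived group contains `z`. -/
theorem exists_flip_group {w : G} (hw : Commute w D.z) (P : Pairing (D.p w) t) (ht : 3 ≤ t) :
    ∃ F : Subgroup G, F ≤ D.cent2 w ∧ D.cent2 w ≤ Subgroup.normalizer (F : Set G) ∧ IsPGroup 2 F ∧
      D.z ∈ ⁅F, F⁆ := by
  classical
  set S : Set G :=
    {u | Commute u D.z ∧ ∃ i j, i ≠ j ∧ D.p u = P.flip i * P.flip j} ∪ {D.z} with hS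
  refine ⟨Subgroup.closure S, ?_, ?_, ?_, ?_⟩
  · rw [Subgroup.closure_le]
    rintro u (⟨hu, i, j, hij, hu'⟩ | rfl)
    · exact D.mem_cent2.2 ⟨hu, D.flip2_lift_comm P hij hw hu hu'⟩
    · exact D.mem_cent2.2 ⟨D.comm_zz, hw.symm⟩
  · have hS' : ∀ h ∈ D.cent2 w, ∀ u ∈ S, h * u * h⁻¹ ∈ S := by
      rintro h hh u (⟨hu, i, j, hij, hu'⟩ | rfl)
      · obtain ⟨hhz, hhw⟩ := D.mem_cent2.1 hh
        have hc := D.p_mem_centralizer hw hhz hhw
        refine Or.inl ⟨D.comm_conj hhz hu, P.act ⟨_, hc⟩ i, P.act ⟨_, hc⟩ j,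
          (P.act ⟨_, hc⟩).injective.ne hij, ?_⟩
        rw [← P.flip_conj ⟨_, hc⟩ i, ← P.flip_conj ⟨_, hc⟩ j, D.p_conj hhz hu, hu']
        group
      · right
        rw [(D.mem_cent2.1 hh).1.eq, mul_inv_cancel_right]
        rfl
    have hle : ∀ h ∈ D.cent2 w, ∀ g ∈ Subgroup.closure S, h * g * h⁻¹ ∈ Subgroup.closure S := by
      intro h hh g hg
      have h2 : (Subgroup.closure S).map (MulAut.conj h).toMonoidHom ≤ Subgroup.closure S := by
        rw [MonoidHom.map_closure, Subgroup.closure_le]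
        rintro _ ⟨u, hu, rfl⟩
        exact Subgroup.subset_closure (hS' h hh u hu)
      exact h2 ⟨g, hg, rfl⟩
    intro h hh
    refine Subgroup.mem_normalizer_iff.2 fun g => ⟨hle h hh g, fun hg => ?_⟩
    have := hle h⁻¹ (inv_mem hh) _ hg
    rwa [show h⁻¹ * (h * g * h⁻¹) * h⁻¹⁻¹ = g by group] at this
  · -- the images only interchange points inside the pairs
    let K : Subgroup G :=
      { carrier := {g | Commute g D.z ∧ ∀ a, D.p g a = a ∨ D.p g a = D.p w a ∧ D.p w a ≠ a}
        one_mem' := ⟨Commute.one_left _, fun a => Or.inl (by rw [D.p_one, Perm.one_apply])⟩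
        mul_mem' := by
          rintro g h ⟨hg, hg'⟩ ⟨hh, hh'⟩
          refine ⟨hg.mul_left hh, fun a => ?_⟩
          rw [D.p_mul hg hh, Perm.mul_apply]
          rcases hh' a with e | ⟨e, hne⟩ <;> rw [e]
          · exact hg' a
          rcases hg' (D.p w a) with e2 | ⟨e2, -⟩
          · exact Or.inr ⟨e2, hne⟩
          · refine Or.inl ?_
            obtain ⟨⟨i, b⟩, rfl⟩ := (P.mem_iff a).2 hne
            rw [e2, P.swap_e, P.swap_e, Bool.not_not]
        inv_mem' := by
          rintro g ⟨hg, hg'⟩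
          refine ⟨hg.inv_left, fun a => ?_⟩
          rw [D.p_inv hg]
          rcases hg' a with e | ⟨e, hne⟩
          · exact Or.inl (Perm.inv_eq_iff_eq.2 e.symm)
          · refine Or.inr ⟨Perm.inv_eq_iff_eq.2 ?_, hne⟩
            obtain ⟨⟨i, b⟩, rfl⟩ := (P.mem_iff a).2 hne
            rw [P.swap_e] at e ⊢
            rcases hg' (P.e (i, !b)) with e2 | ⟨e2, -⟩
            · exfalso
              have := (D.p g).injective (e2.trans e.symm)
              simpa using P.e.injective this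
            · rw [e2, P.swap_e, Bool.not_not] }
    have hle : Subgroup.closure S ≤ K := by
      rw [Subgroup.closure_le]
      rintro u (⟨hu, i, j, hij, hu'⟩ | rfl)
      · refine ⟨hu, fun a => ?_⟩
        rw [hu']
        by_cases ha : a ∈ Set.range P.e
        · obtain ⟨⟨k, b⟩, rfl⟩ := ha
          rcases eq_or_ne k i with rfl | hki
          · exact Or.inr ⟨by rw [P.flip2_left hij, P.swap_e], P.moved k b⟩
          rcases eq_or_ne k j with rfl | hkj
          · exact Or.inr ⟨by rw [P.flip2_right hij, P.swap_e], P.moved k b⟩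
          exact Or.inl (P.flip2_other hki hkj b)
        · exact Or.inl (P.flip2_out i j ha)
      · exact ⟨D.comm_zz, fun a => Or.inl (by rw [D.p_z, Perm.one_apply])⟩
    rintro ⟨g, hg⟩
    obtain ⟨hgz, hg'⟩ := hle hg
    refine ⟨2, Subtype.ext ?_⟩
    show g ^ (2 ^ 2) = 1
    have h2 : D.p (g * g) = 1 := by
      ext a : 1
      rw [D.p_mul hgz hgz, Perm.mul_apply, Perm.one_apply]
      rcases hg' a with e | ⟨e, hne⟩
      · rw [e, e]
      obtain ⟨⟨i, b⟩, rfl⟩ := (P.mem_iff a).2 hne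
      rw [P.swap_e] at e
      rw [e]
      rcases hg' (P.e (i, !b)) with e2 | ⟨e2, -⟩
      · exact absurd (P.e.injective ((D.p g).injective (e2.trans e.symm))) (by simp)
      · rw [e2, P.swap_e, Bool.not_not]
    rcases D.ker (hgz.mul_left hgz) h2 with e | e <;>
      rw [show g ^ (2 ^ 2) = g * g * (g * g) by rw [← sq, ← sq, ← pow_mul]; norm_num, e]
    · exact one_mul _
    · exact D.sq_z
  · let i : Fin t := ⟨0, by omega⟩
    let j : Fin t := ⟨1, by omega⟩
    let k : Fin t := ⟨2, by omega⟩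
    have hij : i ≠ j := by simp [i, j]
    have hjk : j ≠ k := by simp [j, k]
    have hik : i ≠ k := by simp [i, k]
    obtain ⟨u, hu, hu'⟩ := D.exists_flip2 P i j
    obtain ⟨v, hv, hv'⟩ := D.exists_flip2 P j k
    have huv : D.p (u * v) = P.flip i * P.flip k := by
      rw [D.p_mul hu hv, hu', hv', mul_assoc, ← mul_assoc (P.flip j) (P.flip j), Pairing.flip,
        Pairing.flip, Pairing.flip, swap_mul_self, one_mul]
    have h := D.anticomm hu hv (D.flip2_sq P hij hu hu') (D.flip2_sq P hjk hv hv')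
      (D.flip2_sq P hik (hu.mul_left hv) huv)
    have e : ⁅u, v⁆ = D.z := by
      rw [commutatorElement_def, h, hv.eq, mul_inv_cancel_right]
    rw [← e]
    exact Subgroup.commutator_mem_commutator (Subgroup.subset_closure (Or.inl ⟨hu, i, j, hij, hu'⟩))
      (Subgroup.subset_closure (Or.inl ⟨hv, j, k, hjk, hv'⟩))

variable {x : G}

theorem mem_of_pairs_trivial (hx : Commute x D.z) (P : Pairing (D.p x) t) (ht : 0 < t) {g h : G}
    (hg : g ∈ D.cent2 x) (hh : h ∈ D.cent2 x) {K : Subgroup G} (hgK : g ∈ K) (hhK : h ∈ K)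
    (htriv : ∀ k : D.cent2 x, (k : G) ∈ K → D.pairHom P hx k = 1) (w : Fin t × Bool) :
    D.p ⁅g, h⁆ (P.e w) = P.e w :=
  D.pair_kernel_comm P hx (htriv ⟨g, hg⟩ hgK) (htriv ⟨h, hh⟩ hhK) w

/-- A subgroup fixing all pairs does not have the involution among its commutators. -/
theorem notMem_commutator (hx : Commute x D.z) (P : Pairing (D.p x) t) (ht : 0 < t) {K : Subgroup G}
    (hK : K ≤ D.cent2 x) (htriv : ∀ k : D.cent2 x, (k : G) ∈ K → D.pairHom P hx k = 1) :
    x ∉ ⁅K, K⁆ := by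
  intro hxK
  let S : Subgroup G :=
    { carrier := {g | Commute g D.z ∧ ∀ w, D.p g (P.e w) = P.e w}
      one_mem' := ⟨Commute.one_left _, fun w => by rw [D.p_one, Perm.one_apply]⟩
      mul_mem' := fun {g h} hg hh => ⟨hg.1.mul_left hh.1, fun w => by
        rw [D.p_mul hg.1 hh.1, Perm.mul_apply, hh.2, hg.2]⟩
      inv_mem' := fun {g} hg => ⟨hg.1.inv_left, fun w => by
        rw [D.p_inv hg.1]; exact Perm.inv_eq_iff_eq.2 (hg.2 w).symm⟩ }
  have hle : ⁅K, K⁆ ≤ S := by
    rw [Subgroup.commutator_le]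
    intro g hg h hh
    refine ⟨?_, D.mem_of_pairs_trivial hx P ht (hK hg) (hK hh) hg hh htriv⟩
    have hgz := (D.mem_cent2.1 (hK hg)).1
    have hhz := (D.mem_cent2.1 (hK hh)).1
    rw [commutatorElement_def]
    exact ((hgz.mul_left hhz).mul_left hgz.inv_left).mul_left hhz.inv_left
  exact P.moved ⟨0, ht⟩ false ((hle hxK).2 _)

/-- For at least five pairs a normal two-subgroup fixes every pair. -/
theorem two_group_pairs_trivial (hx : Commute x D.z) (P : Pairing (D.p x) t) (ht : 5 ≤ t)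
    {N : Subgroup G} (hN : D.cent2 x ≤ Subgroup.normalizer (N : Set G)) (h2 : IsPGroup 2 N)
    (k : D.cent2 x) (hk : (k : G) ∈ N) : D.pairHom P hx k = 1 := by
  classical
  set ψ := D.pairHom P hx
  set M := (N.subgroupOf (D.cent2 x)).map ψ with hM
  have hM2 : IsPGroup 2 M := (h2.comap_subtype).map ψ
  have hnorm : ∀ m ∈ M, ∀ s ∈ alternatingGroup (Fin t), s * m * s⁻¹ ∈ M := by
    rintro _ ⟨m, hm, rfl⟩ s hs
    obtain ⟨g, rfl⟩ := D.alternating_le_range P hx hs
    exact ⟨g * m * g⁻¹, Subgroup.mem_subgroupOf.2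
      ((Subgroup.mem_normalizer_iff.1 (hN g.2) _).1 (Subgroup.mem_subgroupOf.1 hm)), by simp [ψ]⟩
  haveI : IsSimpleGroup (alternatingGroup (Fin t)) :=
    alternatingGroup.isSimpleGroup (by rw [Nat.card_fin]; omega)
  haveI hnor : (M.subgroupOf (alternatingGroup (Fin t))).Normal :=
    ⟨fun m hm s => Subgroup.mem_subgroupOf.2 (hnorm _ (Subgroup.mem_subgroupOf.1 hm) _ s.2)⟩
  have hbot : M.subgroupOf (alternatingGroup (Fin t)) = ⊥ := by
    refine (hnor.eq_bot_or_eq_top).resolve_right fun htop => ?_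
    let a : Fin t := ⟨0, by omega⟩
    let b : Fin t := ⟨1, by omega⟩
    let c : Fin t := ⟨2, by omega⟩
    have h3 : IsThreeCycle (swap a b * swap a c) :=
      isThreeCycle_swap_mul_swap_same (by simp [a, b]) (by simp [a, c]) (by simp [b, c])
    have hmem : swap a b * swap a c ∈ M :=
      Subgroup.subgroupOf_eq_top.1 htop h3.mem_alternatingGroup
    obtain ⟨e, he⟩ := hM2 ⟨_, hmem⟩
    have h4 : orderOf (swap a b * swap a c) ∣ 2 ^ e :=
      orderOf_dvd_of_pow_eq_one (congrArg Subtype.val he)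
    rw [h3.orderOf] at h4
    have := (Nat.prime_three.dvd_of_dvd_pow h4)
    norm_num at this
  have hm : ψ k ∈ M := ⟨k, Subgroup.mem_subgroupOf.2 hk, rfl⟩
  set m := ψ k with hmdef
  have hcomm : ∀ s ∈ alternatingGroup (Fin t), m * s = s * m := by
    intro s hs
    have h1 : m * s * m⁻¹ * s⁻¹ ∈ M := by
      rw [show m * s * m⁻¹ * s⁻¹ = m * (s * m⁻¹ * s⁻¹) by group]
      exact mul_mem hm (hnorm _ (inv_mem hm) s hs)
    have h2 : m * s * m⁻¹ * s⁻¹ ∈ alternatingGroup (Fin t) := by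
      rw [mem_alternatingGroup] at hs ⊢
      rw [map_mul, map_mul, map_mul, map_inv, map_inv, hs, mul_one, mul_inv_cancel, one_mul, inv_one]
    have h3 : (⟨_, h2⟩ : alternatingGroup (Fin t)) = 1 := by
      rw [← Subgroup.mem_bot, ← hbot]
      exact Subgroup.mem_subgroupOf.2 h1
    exact mul_inv_eq_iff_eq_mul.1 (mul_inv_eq_one.1 (congrArg Subtype.val h3))
  by_contra hm1
  obtain ⟨a, ha⟩ : ∃ a, m a ≠ a := by
    by_contra hcon
    push Not at hcon
    exact hm1 (Equiv.ext hcon)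
  obtain ⟨b, hb⟩ : ∃ b, b ∉ ({a, m a} : Finset (Fin t)) := (Finset.exists_mem_notMem_of_card_lt_card
    (t := Finset.univ) (lt_of_le_of_lt Finset.card_le_two (by simp; omega))).imp fun _ h => h.2
  obtain ⟨c, hc⟩ : ∃ c, c ∉ ({a, m a, b} : Finset (Fin t)) := (Finset.exists_mem_notMem_of_card_lt_card
    (t := Finset.univ) (lt_of_le_of_lt Finset.card_le_three (by simp; omega))).imp fun _ h => h.2
  simp only [Finset.mem_insert, Finset.mem_singleton, not_or] at hb hc
  have h := hcomm (Char.cyc3 a b c) (by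
    rw [mem_alternatingGroup, Char.cyc3, map_mul, sign_swap (Ne.symm hb.1), sign_swap (Ne.symm hc.2.2)]
    rfl)
  have h' := DFunLike.congr_fun h a
  rw [Perm.mul_apply, Perm.mul_apply, Char.cyc3_apply_one (Ne.symm hb.1) (Ne.symm hc.1),
    Char.cyc3_apply_other ha (Ne.symm hb.2) (Ne.symm hc.2.1)] at h'
  exact hb.1 (m.injective h')

omit [Finite G] in
theorem cent2_transfer {g w : G} (hgx : g * x * g⁻¹ = D.z) (hgz : g * D.z * g⁻¹ = w) :
    (D.cent2 x).map (MulAut.conj g).toMonoidHom = D.cent2 w := by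
  ext h
  rw [Subgroup.mem_map, D.mem_cent2]
  have key : ∀ {a b : G}, Commute a b → Commute (g * a * g⁻¹) (g * b * g⁻¹) := fun {a b} h =>
    h.map (MulAut.conj g).toMonoidHom
  constructor
  · rintro ⟨a, ha, rfl⟩
    obtain ⟨h1, h2⟩ := D.mem_cent2.1 ha
    exact ⟨hgx ▸ key h2, hgz ▸ key h1⟩
  · rintro ⟨h1, h2⟩
    have key' : ∀ {a b : G}, Commute a b → Commute (g⁻¹ * a * g) (g⁻¹ * b * g) := fun {a b} h => by
      simpa using h.map (MulAut.conj g⁻¹).toMonoidHom
    refine ⟨g⁻¹ * h * g, D.mem_cent2.2 ⟨?_, ?_⟩, by simp [mul_assoc]⟩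
    · have := key' h2
      rwa [← hgz, show g⁻¹ * (g * D.z * g⁻¹) * g = D.z by group] at this
    · have := key' h1
      rwa [← hgx, show g⁻¹ * (g * x * g⁻¹) * g = x by group] at this

/-- An involution conjugate to `z` in its centralizer moves fewer than sixteen points. -/
theorem few_pairs (hx : Commute x D.z) (hx1 : x * x = 1) (hxne : x ≠ 1) (hxz : x ≠ D.z) {g : G}
    (hgx : g * x * g⁻¹ = D.z) : (D.p x).support.card = 8 := by
  classical
  set w := g * D.z * g⁻¹ with hw
  have hwz : Commute w D.z := by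
    have := hx.symm.map (MulAut.conj g).toMonoidHom
    simpa [hgx, hw] using this
  have hw1 : w * w = 1 := by rw [hw, show g * D.z * g⁻¹ * (g * D.z * g⁻¹) = g * (D.z * D.z) * g⁻¹ by group, D.sq_z]; group
  have hinv : ∀ {y : G}, Commute y D.z → y * y = 1 → y ≠ 1 → y ≠ D.z → 8 ≤ (D.p y).support.card := by
    intro y hy hy1 hyne hyz
    have h8 := D.invol_support hy hy1
    have h0 : (D.p y).support.card ≠ 0 := by
      rw [Ne, Finset.card_eq_zero, Perm.support_eq_empty_iff]
      intro h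
      rcases D.ker hy h with e | e
      exacts [hyne e, hyz e]
    omega
  have hwne : w ≠ 1 := fun e => D.z_ne (by
    rw [show D.z = g⁻¹ * w * g by rw [hw]; group, e]; group)
  have hwz' : w ≠ D.z := fun e => hxz (by
    have : g * D.z * g⁻¹ = g * x * g⁻¹ := by rw [← hw, e, hgx]
    exact (mul_left_cancel (mul_right_cancel this)).symm)
  obtain ⟨t, ht, ⟨P⟩⟩ := exists_pairing (ξ := D.p x) (by rw [← D.p_mul hx hx, hx1, D.p_one])
  obtain ⟨t', ht', ⟨P'⟩⟩ := exists_pairing (ξ := D.p w) (by rw [← D.p_mul hwz hwz, hw1, D.p_one])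
  have h1 := hinv hx hx1 hxne hxz
  have h8 := D.invol_support hx hx1
  have h2 := hinv hwz hw1 hwne hwz'
  by_contra hne
  obtain ⟨F, hF, hFn, hF2, hzF⟩ := D.exists_flip_group hwz P' (by omega)
  set N := F.comap (MulAut.conj g).toMonoidHom with hN
  have hmap : N.map (MulAut.conj g).toMonoidHom = F :=
    Subgroup.map_comap_eq_self_of_surjective (MulAut.conj g).surjective F
  have hNle : N ≤ D.cent2 x := by
    intro a ha
    have h' : g * a * g⁻¹ ∈ (D.cent2 x).map (MulAut.conj g).toMonoidHom := by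
      rw [D.cent2_transfer hgx rfl]; exact hF ha
    obtain ⟨b, hb, hba⟩ := h'
    rwa [(MulAut.conj g).injective hba] at hb
  have hNn : D.cent2 x ≤ Subgroup.normalizer (N : Set G) := by
    intro h hh
    have hh' : g * h * g⁻¹ ∈ D.cent2 w := (D.cent2_transfer hgx rfl).le ⟨h, hh, rfl⟩
    refine Subgroup.mem_normalizer_iff.2 fun a => ?_
    show g * a * g⁻¹ ∈ F ↔ g * (h * a * h⁻¹) * g⁻¹ ∈ F
    rw [Subgroup.mem_normalizer_iff.1 (hFn hh') (g * a * g⁻¹)]
    group
  have hN2 : IsPGroup 2 N := hF2.comap_of_injective _ (MulAut.conj g).injective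
  refine D.notMem_commutator hx P (by omega) hNle
    (D.two_group_pairs_trivial hx P (by omega) hNn hN2) ?_
  have : D.z ∈ ⁅N, N⁆.map (MulAut.conj g).toMonoidHom := by
    rw [Subgroup.map_commutator, hmap]; exact hzF
  obtain ⟨a, ha, hag⟩ := this
  have hax : a = x := (MulAut.conj g).injective (hag.trans hgx.symm)
  exact hax ▸ ha

end DAlt

end Cfsg.Agent.Spor.DoubleAlt
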