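import Cfsg.Agent.Lib.Char.AltStem
import Cfsg.Agent.Lib.Char.DoubleCoverInvol

/-!
# Lifts of double transpositions in the double cover of an alternating group

In a non-split double cover of `A_n` (`8 ≤ n`) every preimage of a double transposition squares to
the central involution: the cover is compared with the Clifford algebra model through the fibre
product.
-/

set_option autoImplicit false
set_option linter.style.haveILetI false

open Equiv Equiv.Perm
open scoped commutatorElement

namespace Cfsg.Agent.Spor.DoubleAlt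

open Cfsg.Agent.Char

variable {n : ℕ}

/-- The permutation induced by an element of the model cover. -/
noncomputable def spPerm (n : ℕ) : spGamma n →* Perm (Fin n) where
  toFun g := (spGamma_act g.2).choose
  map_one' := spAct_unique (spGamma_act (1 : spGamma n).2).choose_spec.1 spAct_one
  map_mul' g h := by
    have := spAct_mul (spGamma_act g.2).choose_spec.1 (spGamma_act h.2).choose_spec.1
    exact spAct_unique (spGamma_act (g * h).2).choose_spec.1 this

theorem spPerm_eq {g : spGamma n} {σ : Perm (Fin n)} {s : ℚ} (h : SpAct (g : (SpAlg n)ˣ) σ s) :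
    spPerm n g = σ :=
  spAct_unique (spGamma_act g.2).choose_spec.1 h

/-- The model lift of a product of two transpositions. -/
noncomputable def spGen {a b c d : Fin n} (h : a ≠ b) (h' : c ≠ d) : spGamma n :=
  ⟨_, Subgroup.subset_closure ⟨a, b, c, d, h, h', rfl⟩⟩

theorem spPerm_gen {a b c d : Fin n} (h : a ≠ b) (h' : c ≠ d) :
    spPerm n (spGen h h') = swap a b * swap c d := by
  refine spPerm_eq (s := 1) ?_
  have := spAct_mul (spAct_mul (spAct_scal (Units.mk0 (2⁻¹ : ℚ) (inv_ne_zero two_ne_zero)))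
    (spAct_spU h)) (spAct_spU h')
  show SpAct (spScal n (Units.mk0 2⁻¹ (inv_ne_zero two_ne_zero)) * spU a b h * spU c d h') _ 1
  simpa using this

theorem spPerm_sign (g : spGamma n) : sign (spPerm n g) = 1 :=
  (spGamma_act g.2).choose_spec.2.1

theorem spPerm_range : (spPerm n).range = alternatingGroup (Fin n) := by
  refine le_antisymm ?_ ?_
  · rintro _ ⟨g, rfl⟩
    exact mem_alternatingGroup.2 (spPerm_sign g)
  rw [← closure_three_cycles_eq_alternating, Subgroup.closure_le]
  intro σ hσ
  obtain ⟨a, ha⟩ : σ.support.Nonempty := Finset.card_pos.1 (by rw [hσ.card_support]; norm_num)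
  have hd := hσ.nodup_iff_mem_support.2 ha
  simp only [List.nodup_cons, List.mem_cons, List.not_mem_nil, or_false, not_or, List.nodup_nil,
    and_true] at hd
  obtain ⟨⟨h1, h2⟩, h3, -⟩ := hd
  exact ⟨spGen h1 h3, (spPerm_gen h1 h3).trans (hσ.eq_swap_mul_swap_iff_mem_support.2 ha).symm⟩

theorem spPerm_ker {g : spGamma n} (h : spPerm n g = 1) :
    (g : (SpAlg n)ˣ) = 1 ∨ (g : (SpAlg n)ˣ) = spScal n (-1) :=
  spGamma_kernel g.2 (h ▸ (spGamma_act g.2).choose_spec.1)

theorem spGen_sq {a b c d : Fin n} (h : a ≠ b) (h' : c ≠ d) (h1 : a ≠ c) (h2 : a ≠ d) (h3 : b ≠ c)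
    (h4 : b ≠ d) : ((spGen h h' * spGen h h' : spGamma n) : (SpAlg n)ˣ) = spScal n (-1) := by
  refine Units.ext ?_
  show (algebraMap ℚ (SpAlg n) 2⁻¹ * spT a b * spT c d) *
      (algebraMap ℚ (SpAlg n) 2⁻¹ * spT a b * spT c d) = algebraMap ℚ (SpAlg n) (-1)
  have e1 : spT a b * spT c d * (spT a b * spT c d) = (-4 : ℚ) • (1 : SpAlg n) := by
    calc spT a b * spT c d * (spT a b * spT c d) = -(spT a b * spT a b * (spT c d * spT c d)) := by
          rw [show spT a b * spT c d * (spT a b * spT c d) = spT a b * (spT c d * spT a b) * spT c d by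
            simp only [mul_assoc], spT_anticomm h1.symm h3.symm h2.symm h4.symm]
          simp only [mul_neg, neg_mul, mul_assoc]
      _ = (-4 : ℚ) • (1 : SpAlg n) := by
          rw [spT_sq h, spT_sq h', neg_smul, Algebra.smul_def, mul_one, map_ofNat]
          norm_num
  rw [mul_assoc (algebraMap ℚ (SpAlg n) 2⁻¹), ← Algebra.smul_def, smul_mul_smul_comm, e1, smul_smul,
    Algebra.smul_def, mul_one]
  norm_num

universe u

variable {H : Type u} [Group H]

/-- A group covered by a subgroup and its centre has the commutators of that subgroup. -/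
theorem commutator_le_of_cover (K : Subgroup H)
    (h : ∀ x : H, ∃ k ∈ K, k⁻¹ * x ∈ Subgroup.center H) : commutator H ≤ ⁅K, K⁆ := by
  rw [commutator_def, Subgroup.commutator_le]
  intro a _ b _
  obtain ⟨k, hk, hkc⟩ := h a
  obtain ⟨l, hl, hlc⟩ := h b
  obtain ⟨c, hc, rfl⟩ : ∃ c ∈ Subgroup.center H, a = k * c := ⟨_, hkc, by group⟩
  obtain ⟨d, hd, rfl⟩ : ∃ d ∈ Subgroup.center H, b = l * d := ⟨_, hlc, by group⟩
  have hcc := Subgroup.mem_center_iff.1 hc
  have hdc := Subgroup.mem_center_iff.1 hd
  have e : ⁅k * c, l * d⁆ = ⁅k, l⁆ := by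
    rw [commutatorElement_def, commutatorElement_def, mul_inv_rev, mul_inv_rev]
    calc k * c * (l * d) * (c⁻¹ * k⁻¹) * (d⁻¹ * l⁻¹)
        = k * c * (l * d * c⁻¹) * k⁻¹ * (d⁻¹ * l⁻¹) := by group
      _ = k * (l * d * c⁻¹ * c) * k⁻¹ * (d⁻¹ * l⁻¹) := by rw [hcc (l * d * c⁻¹)]; group
      _ = k * l * (d * k⁻¹) * (d⁻¹ * l⁻¹) := by group
      _ = k * l * (k⁻¹ * d) * (d⁻¹ * l⁻¹) := by rw [hdc k⁻¹]
      _ = _ := by group
  rw [e]
  exact Subgroup.commutator_mem_commutator hk hl

theorem commutator_alt_eq_top (hn : 5 ≤ n) : commutator (alternatingGroup (Fin n)) = ⊤ :=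
  commutator_alternatingGroup_eq_top (by rw [Nat.card_fin]; omega)

/-- The commutator subgroup of a central cover of `A_n` maps onto it. -/
theorem exists_commutator_lift (hn : 5 ≤ n) (π : H →* Perm (Fin n))
    (hr : π.range = alternatingGroup (Fin n)) :
    (commutator H).map π = alternatingGroup (Fin n) := by
  rw [commutator_def, Subgroup.map_commutator, ← MonoidHom.range_eq_map, hr]
  have := congrArg (Subgroup.map (alternatingGroup (Fin n)).subtype) (commutator_alt_eq_top hn)
  rwa [commutator_def, Subgroup.map_commutator, ← MonoidHom.range_eq_map, Subgroup.range_subtype]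
    at this

variable [Finite H]

/-- In a non-split double cover of `A_n`, lifts of double transpositions square to the centre. -/
theorem cover_square (hn : 8 ≤ n) (hH : IsNonsplitDoubleCover H (alternatingGroup (Fin n))) :
    ∃ π : H →* Perm (Fin n), π.ker = Subgroup.center H ∧ π.range = alternatingGroup (Fin n) ∧
      ∀ (g : H) (a b c d : Fin n), a ≠ b → c ≠ d → a ≠ c → a ≠ d → b ≠ c → b ≠ d →
        π g = swap a b * swap c d → g * g ≠ 1 := by
  classical
  obtain ⟨hc, ⟨e⟩, hns⟩ := hH
  let π : H →* Perm (Fin n) :=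
    ((alternatingGroup (Fin n)).subtype.comp e.toMonoidHom).comp (QuotientGroup.mk' (Subgroup.center H))
  have hker : π.ker = Subgroup.center H := by
    ext g
    rw [MonoidHom.mem_ker]
    show (alternatingGroup (Fin n)).subtype (e (QuotientGroup.mk' (Subgroup.center H) g)) = 1 ↔ _
    rw [← map_one (alternatingGroup (Fin n)).subtype, (Subgroup.subtype_injective _).eq_iff,
      MulEquiv.map_eq_one_iff, ← MonoidHom.mem_ker, QuotientGroup.ker_mk']
  have hr : π.range = alternatingGroup (Fin n) := by
    show MonoidHom.range (((alternatingGroup (Fin n)).subtype.comp e.toMonoidHom).comp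
      (QuotientGroup.mk' _)) = _
    rw [MonoidHom.range_comp, MonoidHom.range_eq_top.2 (QuotientGroup.mk'_surjective _),
      ← MonoidHom.range_eq_map, MonoidHom.range_comp, MonoidHom.range_eq_top.2 e.surjective,
      ← MonoidHom.range_eq_map, Subgroup.range_subtype]
  refine ⟨π, hker, hr, ?_⟩
  have hn5 : 5 ≤ n := by omega
  -- the cover is perfect
  have hmapC := exists_commutator_lift hn5 π hr
  have hsupC : commutator H ⊔ Subgroup.center H = ⊤ := by
    rw [eq_top_iff]
    intro x _
    obtain ⟨k, hk, hkx⟩ : π x ∈ (commutator H).map π := by rw [hmapC, ← hr]; exact ⟨x, rfl⟩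
    have : k⁻¹ * x ∈ Subgroup.center H := by
      rw [← hker, MonoidHom.mem_ker, map_mul, map_inv, hkx, inv_mul_cancel]
    have h := mul_mem (Subgroup.mem_sup_left hk : k ∈ commutator H ⊔ Subgroup.center H)
      (Subgroup.mem_sup_right this)
    rwa [mul_inv_cancel_left] at h
  have hperf : commutator H = ⊤ := by
    rw [← hsupC, left_eq_sup]
    by_contra hle
    refine hns (commutator H) (Subgroup.isComplement'_of_disjoint_and_mul_eq_univ ?_ ?_)
    · rw [Subgroup.disjoint_def]
      intro x hxc hx
      by_contra hx1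
      refine hle fun y hy => ?_
      obtain ⟨p, q, -, hpq⟩ := Nat.card_eq_two_iff.1 hc
      have hmem : ∀ v : Subgroup.center H, v = p ∨ v = q := fun v => by
        have hv : v ∈ ({p, q} : Set _) := hpq ▸ Set.mem_univ v
        simpa using hv
      rcases eq_or_ne y 1 with rfl | hy1
      · exact one_mem _
      suffices y = x from this ▸ hx
      have e1 : (⟨x, hxc⟩ : Subgroup.center H) ≠ 1 := fun h => hx1 (congrArg Subtype.val h)
      have e2 : (⟨y, hy⟩ : Subgroup.center H) ≠ 1 := fun h => hy1 (congrArg Subtype.val h)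
      suffices (⟨y, hy⟩ : Subgroup.center H) = ⟨x, hxc⟩ from congrArg Subtype.val this
      rcases hmem ⟨x, hxc⟩ with h | h <;> rcases hmem ⟨y, hy⟩ with h' | h' <;>
        rcases hmem 1 with h'' | h'' <;> simp_all
    · rw [← Subgroup.mul_normal, sup_comm, hsupC, Subgroup.coe_top]
  -- the model
  obtain ⟨hfin, zΓ, hzval, hzc, hzo, hzd, -, -⟩ := spGamma_cover n (by omega)
  haveI := hfin
  let ρ := spPerm n
  have hρker : ∀ y : spGamma n, ρ y = 1 → y ∈ Subgroup.center (spGamma n) := fun y hy => by
    rcases spPerm_ker hy with h | h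
    · rw [show y = 1 from Subtype.ext h]; exact one_mem _
    · rw [show y = zΓ from Subtype.ext (h.trans hzval.symm)]; exact hzc
  have hperfΓ : commutator (spGamma n) = ⊤ := by
    rw [eq_top_iff]
    intro y _
    obtain ⟨k, hk, hky⟩ : ρ y ∈ (commutator (spGamma n)).map ρ := by
      rw [exists_commutator_lift hn5 ρ spPerm_range, ← spPerm_range]; exact ⟨y, rfl⟩
    have h1 : ρ (k⁻¹ * y) = 1 := by rw [map_mul, map_inv, hky, inv_mul_cancel]
    have h2 : k⁻¹ * y ∈ commutator (spGamma n) := by
      rcases spPerm_ker h1 with h | h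
      · rw [show k⁻¹ * y = 1 from Subtype.ext h]; exact one_mem _
      · rw [show k⁻¹ * y = zΓ from Subtype.ext (h.trans hzval.symm)]; exact hzd
    have := mul_mem hk h2
    rwa [mul_inv_cancel_left] at this
  -- the fibre product
  let P : Subgroup (H × spGamma n) :=
    (π.comp (MonoidHom.fst H (spGamma n))).eqLocus (ρ.comp (MonoidHom.snd H (spGamma n)))
  let πP : P →* Perm (Fin n) := (π.comp (MonoidHom.fst H (spGamma n))).comp P.subtype
  let f1 : P →* H := (MonoidHom.fst H (spGamma n)).comp P.subtype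
  let f2 : P →* spGamma n := (MonoidHom.snd H (spGamma n)).comp P.subtype
  have hP : ∀ w : P, π (f1 w) = ρ (f2 w) := fun w => w.2
  have hf1 : Function.Surjective f1 := fun a => by
    obtain ⟨b, hb⟩ : π a ∈ ρ.range := by rw [spPerm_range, ← hr]; exact ⟨a, rfl⟩
    exact ⟨⟨(a, b), hb.symm⟩, rfl⟩
  have hf2 : Function.Surjective f2 := fun b => by
    obtain ⟨a, ha⟩ : ρ b ∈ π.range := by rw [hr, ← spPerm_range]; exact ⟨b, rfl⟩
    exact ⟨⟨(a, b), ha⟩, rfl⟩
  have hPc : ∀ w : P, πP w = 1 → w ∈ Subgroup.center P := fun w hw => by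
    refine Subgroup.mem_center_iff.2 fun v => Subtype.ext (Prod.ext ?_ ?_)
    · exact Subgroup.mem_center_iff.1 (hker ▸ MonoidHom.mem_ker.2 hw) (f1 v)
    · exact Subgroup.mem_center_iff.1 (hρker (f2 w) ((hP w).symm.trans hw)) (f2 v)
  set K : Subgroup P := commutator P with hK
  have hPr : πP.range = alternatingGroup (Fin n) := by
    show MonoidHom.range (π.comp f1) = _
    rw [MonoidHom.range_comp, MonoidHom.range_eq_top.2 hf1, ← MonoidHom.range_eq_map, hr]
  have hKmap : K.map πP = alternatingGroup (Fin n) := exists_commutator_lift hn5 πP hPr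
  have hcov : ∀ w : P, ∃ k ∈ K, k⁻¹ * w ∈ Subgroup.center P := fun w => by
    obtain ⟨k, hk, hkw⟩ : πP w ∈ K.map πP := by rw [hKmap, ← hPr]; exact ⟨w, rfl⟩
    exact ⟨k, hk, hPc _ (by rw [map_mul, map_inv, hkw, inv_mul_cancel])⟩
  have hKK : ⁅K, K⁆ = K := le_antisymm
    (Subgroup.commutator_mono le_top le_top |>.trans_eq (commutator_def P).symm)
    (commutator_le_of_cover K hcov)
  have hKtop : commutator K = ⊤ := by
    refine Subgroup.map_injective K.subtype_injective ?_
    rw [commutator_def, Subgroup.map_commutator, ← MonoidHom.range_eq_map, Subgroup.range_subtype, hKK]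
  let πK : K →* Perm (Fin n) := πP.comp K.subtype
  have hKr : πK.range = alternatingGroup (Fin n) := by
    show (πP.comp K.subtype).range = _
    rw [MonoidHom.range_comp, Subgroup.range_subtype, hKmap]
  have hstem := stem_alt_kernel_le_two πK hn5 (Or.inr hn) hKr (fun w hw => by
    refine Subgroup.mem_center_iff.2 fun v => Subtype.ext ?_
    exact Subgroup.mem_center_iff.1 (hPc (w : P) hw) (v : P)) (hKtop ▸ le_top)
  have hKcard : Nat.card K ≤ Nat.card H := by
    have h1 := πK.ker.card_mul_index
    rw [Subgroup.index_ker, hKr] at h1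
    have h2 := π.ker.card_mul_index
    rw [Subgroup.index_ker, hr, hker, hc] at h2
    rw [← h1, ← h2]
    exact Nat.mul_le_mul_right _ hstem
  let g1 : K →* H := f1.comp K.subtype
  let g2 : K →* spGamma n := f2.comp K.subtype
  have hg1 : Function.Surjective g1 := by
    rw [← MonoidHom.range_eq_top, MonoidHom.range_comp, Subgroup.range_subtype, hK, commutator_def,
      Subgroup.map_commutator, ← MonoidHom.range_eq_map, MonoidHom.range_eq_top.2 hf1, ← commutator_def,
      hperf]
  have hg2 : Function.Surjective g2 := by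
    rw [← MonoidHom.range_eq_top, MonoidHom.range_comp, Subgroup.range_subtype, hK, commutator_def,
      Subgroup.map_commutator, ← MonoidHom.range_eq_map, MonoidHom.range_eq_top.2 hf2, ← commutator_def,
      hperfΓ]
  have hbij : Function.Bijective g1 := by
    letI := Fintype.ofFinite K
    letI := Fintype.ofFinite H
    rw [Fintype.bijective_iff_surjective_and_card]
    refine ⟨hg1, ?_⟩
    rw [← Nat.card_eq_fintype_card, ← Nat.card_eq_fintype_card]
    exact le_antisymm hKcard (Nat.card_le_card_of_surjective g1 hg1)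
  intro g a b c d hab hcd hac had hbc hbd hg hgg
  obtain ⟨k, rfl⟩ := hg1 g
  have hk1 : k * k = 1 := hbij.1 (by rw [map_mul, map_one, hgg])
  have hγ : ρ (g2 k) = ρ (spGen hab hcd) :=
    ((hP (k : P)).symm.trans hg).trans (spPerm_gen hab hcd).symm
  have h1 : ρ ((spGen hab hcd)⁻¹ * g2 k) = 1 := by rw [map_mul, map_inv, hγ, inv_mul_cancel]
  have hsq : g2 k * g2 k = spGen hab hcd * spGen hab hcd := by
    set G0 := spGen hab hcd
    obtain ⟨w, hw, hwG⟩ : ∃ w ∈ Subgroup.center (spGamma n), g2 k = G0 * w ∧ w * w = 1 := by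
      refine ⟨G0⁻¹ * g2 k, hρker _ h1, by group, ?_⟩
      rcases spPerm_ker h1 with h | h
      · rw [show G0⁻¹ * g2 k = 1 from Subtype.ext h, one_mul]
      · rw [show G0⁻¹ * g2 k = zΓ from Subtype.ext (h.trans hzval.symm), ← sq, ← hzo,
          pow_orderOf_eq_one]
    rw [hwG.1]
    calc G0 * w * (G0 * w) = G0 * (w * G0) * w := by group
      _ = G0 * (G0 * w) * w := by rw [← Subgroup.mem_center_iff.1 hw G0]
      _ = G0 * G0 * (w * w) := by group
      _ = G0 * G0 := by rw [hwG.2, mul_one]
  have hz1 : spGen hab hcd * spGen hab hcd = zΓ :=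
    Subtype.ext ((spGen_sq hab hcd hac had hbc hbd).trans hzval.symm)
  have : zΓ = 1 := by rw [← hz1, ← hsq, ← map_mul, hk1, map_one]
  rw [this, orderOf_one] at hzo
  omega

end Cfsg.Agent.Spor.DoubleAlt
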