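import Cfsg.Agent.Lib.Spor.DoubleAlt.Cover

/-!
# An involution whose centralizer is a double cover of an alternating group

The data are the involution, the induced permutation of the points and the fact that lifts of
double transpositions square to the involution.
-/

set_option autoImplicit false
set_option linter.style.haveILetI false
set_option linter.unusedSectionVars false

open Equiv Equiv.Perm

namespace Cfsg.Agent.Spor.DoubleAlt

universe u

/-- An involution `z` whose centralizer covers `A_n` twice, double transpositions lifting to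
elements of order four. -/
structure DAlt (G : Type u) [Group G] (n : ℕ) where
  /-- the involution -/
  z : G
  /-- the permutation induced by an element of the centralizer -/
  p : G → Perm (Fin n)
  sq_z : z * z = 1
  z_ne : z ≠ 1
  p_mul : ∀ {g h : G}, Commute g z → Commute h z → p (g * h) = p g * p h
  p_z : p z = 1
  sign_p : ∀ {g : G}, Commute g z → sign (p g) = 1
  surj : ∀ {σ : Perm (Fin n)}, sign σ = 1 → ∃ g, Commute g z ∧ p g = σ
  ker : ∀ {g : G}, Commute g z → p g = 1 → g = 1 ∨ g = z
  sq_dt : ∀ {g : G}, Commute g z → ∀ {a b c d : Fin n}, a ≠ b → c ≠ d → a ≠ c → a ≠ d → b ≠ c →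
    b ≠ d → p g = swap a b * swap c d → g * g = z

namespace DAlt

variable {G : Type u} [Group G] {n : ℕ} (D : DAlt G n)

theorem inv_z : D.z⁻¹ = D.z := inv_eq_of_mul_eq_one_right D.sq_z

theorem comm_zz : Commute D.z D.z := Commute.refl _

theorem p_one : D.p 1 = 1 := by
  have h := D.p_mul (Commute.one_left D.z) (Commute.one_left D.z)
  rw [one_mul] at h
  exact mul_eq_left.1 h.symm

theorem p_inv {g : G} (hg : Commute g D.z) : D.p g⁻¹ = (D.p g)⁻¹ := by
  refine eq_inv_of_mul_eq_one_left ?_
  rw [← D.p_mul hg.inv_left hg, inv_mul_cancel, D.p_one]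

theorem p_pow {g : G} (hg : Commute g D.z) : ∀ k : ℕ, D.p (g ^ k) = D.p g ^ k
  | 0 => by rw [pow_zero, pow_zero, D.p_one]
  | k + 1 => by rw [pow_succ, pow_succ, D.p_mul (hg.pow_left k) hg, p_pow hg k]

theorem p_conj {g h : G} (hg : Commute g D.z) (hh : Commute h D.z) :
    D.p (g * h * g⁻¹) = D.p g * D.p h * (D.p g)⁻¹ := by
  rw [D.p_mul (hg.mul_left hh) hg.inv_left, D.p_mul hg hh, D.p_inv hg]

theorem p_mul_z {g : G} (hg : Commute g D.z) : D.p (g * D.z) = D.p g := by
  rw [D.p_mul hg D.comm_zz, D.p_z, mul_one]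

theorem comm_conj {g h : G} (hg : Commute g D.z) (hh : Commute h D.z) :
    Commute (g * h * g⁻¹) D.z := (hg.mul_left hh).mul_left hg.inv_left

/-- Two elements with the same image differ by the kernel. -/
theorem eq_or {g h : G} (hg : Commute g D.z) (hh : Commute h D.z) (e : D.p g = D.p h) :
    h = g ∨ h = g * D.z := by
  rcases D.ker (hg.inv_left.mul_left hh)
    (by rw [D.p_mul hg.inv_left hh, D.p_inv hg, e, inv_mul_cancel]) with h1 | h1
  · exact Or.inl (inv_mul_eq_one.1 h1).symm
  · exact Or.inr (inv_mul_eq_iff_eq_mul.1 h1)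

theorem comm_or {g h : G} (hg : Commute g D.z) (hh : Commute h D.z)
    (e : Commute (D.p g) (D.p h)) : g * h * g⁻¹ = h ∨ g * h * g⁻¹ = h * D.z := by
  refine D.eq_or hh (D.comm_conj hg hh) ?_
  rw [D.p_conj hg hh, e.eq, mul_inv_cancel_right]

/-- An element with image of odd order commutes with every lift of a permutation commuting with
the image. -/
theorem comm_of_odd {g h : G} (hg : Commute g D.z) (hh : Commute h D.z)
    (e : Commute (D.p g) (D.p h)) (ho : Odd (orderOf (D.p g))) : Commute g h := by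
  rcases D.comm_or hg hh e with h1 | h1
  · exact mul_inv_eq_iff_eq_mul.1 h1
  exfalso
  have hk : ∀ k : ℕ, g ^ k * h * (g ^ k)⁻¹ = h * D.z ^ k := by
    intro k
    induction k with
    | zero => simp
    | succ k ih =>
      have hz : Commute g (D.z ^ k) := hg.pow_right k
      calc g ^ (k + 1) * h * (g ^ (k + 1))⁻¹ = g * (g ^ k * h * (g ^ k)⁻¹) * g⁻¹ := by
            rw [pow_succ']; group
        _ = (g * h * g⁻¹) * (g * D.z ^ k * g⁻¹) := by rw [ih]; group
        _ = h * D.z ^ (k + 1) := by rw [h1, hz.eq, mul_inv_cancel_right, pow_succ', mul_assoc]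
  obtain ⟨m, hm⟩ := ho
  have hzc : Commute (g ^ orderOf (D.p g)) h := by
    rcases D.ker (hg.pow_left _) (by rw [D.p_pow hg, pow_orderOf_eq_one]) with e1 | e1 <;> rw [e1]
    · exact Commute.one_left h
    · exact hh.symm
  have h2 := hk (orderOf (D.p g))
  rw [hzc.eq, mul_inv_cancel_right, hm, pow_succ, pow_mul, pow_two, D.sq_z, one_pow, one_mul] at h2
  exact D.z_ne (mul_eq_left.1 h2.symm)

/-- An even permutation of odd order has a lift of the same order. -/
theorem exists_odd_lift {σ : Perm (Fin n)} {m : ℕ} (hm : Odd m) (hσ : σ ^ m = 1) :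
    ∃ g, Commute g D.z ∧ D.p g = σ ∧ g ^ m = 1 := by
  have hs : sign σ = 1 := by
    rcases Int.units_eq_one_or (sign σ) with h | h
    · exact h
    · have h' := congrArg sign hσ
      rw [map_pow, h, hm.neg_one_pow, map_one] at h'
      exact absurd h' (by decide)
  obtain ⟨g, hg, hgσ⟩ := D.surj hs
  rcases D.ker (hg.pow_left m) (by rw [D.p_pow hg, hgσ, hσ]) with e | e
  · exact ⟨g, hg, hgσ, e⟩
  · refine ⟨g * D.z, hg.mul_left D.comm_zz, (D.p_mul_z hg).trans hgσ, ?_⟩
    obtain ⟨k, hk⟩ := hm
    rw [hg.mul_pow, e, hk, pow_succ, pow_mul, pow_two, D.sq_z, one_pow, one_mul, D.sq_z]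

/-- Lifts of odd order are unique. -/
theorem odd_lift_unique {g h : G} (hg : Commute g D.z) (hh : Commute h D.z) {m : ℕ} (hm : Odd m)
    (hgm : g ^ m = 1) (hhm : h ^ m = 1) (e : D.p g = D.p h) : g = h := by
  rcases D.eq_or hg hh e with h1 | h1
  · exact h1.symm
  exfalso
  obtain ⟨k, hk⟩ := hm
  rw [h1, hg.mul_pow, hgm, one_mul, hk, pow_succ, pow_mul, pow_two, D.sq_z, one_pow, one_mul] at hhm
  exact D.z_ne hhm

/-- Lifts of disjoint permutations commute. -/
theorem comm_disjoint {g h : G} (hg : Commute g D.z) (hh : Commute h D.z)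
    (hd : ∀ x, D.p g x = x ∨ D.p h x = x) : Commute g h := by
  classical
  let q : Fin n → Prop := fun x => D.p h x = x
  let emb : Perm (Subtype q) →* Perm (Fin n) := Perm.ofSubtype
  have hemb : ∀ k : Perm (Subtype q), Commute (emb k) (D.p h) := fun k => by
    refine Perm.Disjoint.commute fun x => ?_
    by_cases hx : q x
    · exact Or.inr hx
    · exact Or.inl (Perm.ofSubtype_apply_of_not_mem k hx)
  let M : Subgroup (Perm (Subtype q)) :=
    { carrier := {k | sign k = 1 ∧ ∀ g, Commute g D.z → D.p g = emb k → Commute g h}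
      one_mem' := ⟨map_one _, fun g hg e => by
        rcases D.ker hg (e.trans (map_one emb)) with rfl | rfl
        · exact Commute.one_left h
        · exact hh.symm⟩
      mul_mem' := by
        rintro a b ⟨ha, ha'⟩ ⟨hb, hb'⟩
        refine ⟨by rw [map_mul, ha, hb, one_mul], fun g hg e => ?_⟩
        obtain ⟨u, hu, hu'⟩ := D.surj (σ := emb a) (by rw [sign_ofSubtype, ha])
        have h2 := hb' (u⁻¹ * g) (hu.inv_left.mul_left hg) (by
          rw [D.p_mul hu.inv_left hg, D.p_inv hu, hu', e, map_mul, inv_mul_cancel_left])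
        have h3 := (ha' u hu hu').mul_left h2
        rwa [mul_inv_cancel_left] at h3
      inv_mem' := by
        rintro a ⟨ha, ha'⟩
        refine ⟨by rw [map_inv, ha, inv_one], fun g hg e => ?_⟩
        have := (ha' g⁻¹ hg.inv_left (by rw [D.p_inv hg, e, map_inv, inv_inv])).inv_left
        rwa [inv_inv] at this }
  have hM : alternatingGroup (Subtype q) ≤ M := by
    rw [← closure_three_cycles_eq_alternating, Subgroup.closure_le]
    intro k hk
    refine ⟨hk.sign, fun g hg e => D.comm_of_odd hg hh (e ▸ hemb k) ?_⟩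
    rw [e, orderOf_injective emb Perm.ofSubtype_injective k, hk.orderOf]
    exact ⟨1, rfl⟩
  have h1 : ∀ x, q (D.p g x) ↔ q x := by
    intro x
    rcases hd x with h | h
    · rw [h]
    · refine ⟨fun _ => h, fun _ => ?_⟩
      rcases hd (D.p g x) with h2 | h2
      · rwa [(D.p g).injective h2]
      · exact h2
  have h2 : ∀ x, D.p g x ≠ x → q x := fun x hx => (hd x).resolve_left hx
  set k := (D.p g).subtypePerm h1
  have hk : emb k = D.p g := Perm.ofSubtype_subtypePerm h1 h2
  refine (hM (mem_alternatingGroup.2 ?_)).2 g hg hk.symm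
  rw [← sign_ofSubtype, show Perm.ofSubtype k = D.p g from hk]
  exact D.sign_p hg

/-- Lifts of two double transpositions whose product is again one anticommute. -/
theorem anticomm {u v : G} (hu : Commute u D.z) (hv : Commute v D.z) (u2 : u * u = D.z)
    (v2 : v * v = D.z) (uv2 : u * v * (u * v) = D.z) : u * v * u⁻¹ = v * D.z := by
  have hc : Commute (v * v) u⁻¹ := by rw [v2]; exact hu.inv_left.symm
  calc u * v * u⁻¹ = (u * v * (u * v)) * v⁻¹ * (u * u)⁻¹ := by group
    _ = D.z * v⁻¹ * D.z := by rw [uv2, u2, D.inv_z]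
    _ = v⁻¹ := by rw [← hv.inv_left.eq, mul_assoc, D.sq_z, mul_one]
    _ = v * D.z := by
      refine inv_eq_of_mul_eq_one_right ?_
      rw [← mul_assoc, v2, D.sq_z]

/-- The square of a preimage of an involution. -/
theorem sq_invol : ∀ (k : ℕ) {g : G}, Commute g D.z → (D.p g).support.card = k →
    D.p g * D.p g = 1 → 4 ∣ k ∧ (8 ∣ k → g * g = 1) ∧ (¬ 8 ∣ k → g * g = D.z) := by
  classical
  intro k
  induction k using Nat.strong_induction_on with
  | _ k ih =>
    intro g hg hk h2
    rcases Nat.eq_zero_or_pos k with rfl | hk0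
    · refine ⟨dvd_zero _, fun _ => ?_, fun h => absurd (dvd_zero 8) h⟩
      rcases D.ker hg (Perm.support_eq_empty_iff.1 (Finset.card_eq_zero.1 hk)) with rfl | rfl
      · exact one_mul _
      · exact D.sq_z
    obtain ⟨a, ha⟩ : (D.p g).support.Nonempty := Finset.card_pos.1 (hk ▸ hk0)
    set σ := D.p g with hσ
    have hinv : ∀ x, σ (σ x) = x := fun x => by rw [← Perm.mul_apply, h2, Perm.one_apply]
    have hab : a ≠ σ a := fun e => Perm.mem_support.1 ha e.symm
    obtain ⟨c, hc, hca, hcb⟩ : ∃ c, σ c ≠ c ∧ c ≠ a ∧ c ≠ σ a := by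
      by_contra hcon
      push Not at hcon
      have hsw : σ = swap a (σ a) := by
        ext x : 1
        rcases eq_or_ne x a with rfl | hxa
        · rw [swap_apply_left]
        rcases eq_or_ne x (σ a) with rfl | hxb
        · rw [swap_apply_right, hinv]
        rw [swap_apply_of_ne_of_ne hxa hxb]
        by_contra hx
        exact hxb (hcon x hx hxa)
      have h1 := D.sign_p hg
      rw [← hσ, hsw, sign_swap hab] at h1
      exact absurd h1 (by decide)
    have hcd : c ≠ σ c := fun e => hc e.symm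
    have had : a ≠ σ c := fun e => hcb (by rw [e, hinv])
    have hbd : σ a ≠ σ c := fun e => hca (σ.injective e).symm
    obtain ⟨u, hu, hu'⟩ := D.surj (σ := swap a (σ a) * swap c (σ c))
      (by rw [map_mul, sign_swap hab, sign_swap hcd]; rfl)
    have hg' : Commute (u⁻¹ * g) D.z := hu.inv_left.mul_left hg
    have hp : ∀ x, D.p (u⁻¹ * g) x =
        if x = a ∨ x = σ a ∨ x = c ∨ x = σ c then x else σ x := by
      intro x
      rw [D.p_mul hu.inv_left hg, D.p_inv hu, hu', ← hσ, mul_inv_rev, swap_inv, swap_inv,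
        Perm.mul_apply, Perm.mul_apply]
      split_ifs with h
      · rcases h with rfl | rfl | rfl | rfl
        · rw [swap_apply_right, swap_apply_of_ne_of_ne hca.symm had]
        · rw [hinv, swap_apply_left, swap_apply_of_ne_of_ne hcb.symm hbd]
        · rw [swap_apply_of_ne_of_ne had.symm hbd.symm, swap_apply_right]
        · rw [hinv, swap_apply_of_ne_of_ne hca hcb, swap_apply_left]
      · push Not at h
        obtain ⟨h1, h2, h3, h4⟩ := h
        rw [swap_apply_of_ne_of_ne (fun e => h2 (by rw [← e, hinv])) (fun e => h1 (σ.injective e)),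
          swap_apply_of_ne_of_ne (fun e => h4 (by rw [← e, hinv])) (fun e => h3 (σ.injective e))]
    have hsupp : (D.p (u⁻¹ * g)).support = σ.support \ {a, σ a, c, σ c} := by
      ext x
      rw [Perm.mem_support, hp, Finset.mem_sdiff, Perm.mem_support]
      simp only [Finset.mem_insert, Finset.mem_singleton]
      split_ifs with h <;> simp [h]
    have hsub : ({a, σ a, c, σ c} : Finset (Fin n)) ⊆ σ.support := by
      intro x hx
      simp only [Finset.mem_insert, Finset.mem_singleton] at hx
      rw [Perm.mem_support]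
      rcases hx with rfl | rfl | rfl | rfl
      · exact hab.symm
      · rw [hinv]; exact hab
      · exact hc
      · rw [hinv]; exact hcd
    have h4 : ({a, σ a, c, σ c} : Finset (Fin n)).card = 4 := by
      rw [Finset.card_insert_of_notMem (by simp [hab, hca.symm, had]),
        Finset.card_insert_of_notMem (by simp [hcb.symm, hbd]), Finset.card_pair hcd]
    have hcard : (D.p (u⁻¹ * g)).support.card = k - 4 := by
      rw [hsupp, Finset.card_sdiff_of_subset hsub, h4, hk]
    have hk4 : 4 ≤ k := hk ▸ h4 ▸ Finset.card_le_card hsub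
    have hinv' : D.p (u⁻¹ * g) * D.p (u⁻¹ * g) = 1 := by
      ext x : 1
      rw [Perm.mul_apply, hp x]
      split_ifs with h
      · rw [hp x, if_pos h, Perm.one_apply]
      · rw [hp, if_neg, hinv, Perm.one_apply]
        rintro (e | e | e | e)
        · exact h (Or.inr (Or.inl (by rw [← e, hinv])))
        · exact h (Or.inl (σ.injective e))
        · exact h (Or.inr (Or.inr (Or.inr (by rw [← e, hinv]))))
        · exact h (Or.inr (Or.inr (Or.inl (σ.injective e))))
    obtain ⟨i1, i2, i3⟩ := ih (k - 4) (by omega) hg' hcard hinv'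
    have hcomm : Commute (u⁻¹ * g) u := D.comm_disjoint hg' hu fun x => by
      rw [hp, hu']
      split_ifs with h
      · exact Or.inl rfl
      · push Not at h
        refine Or.inr ?_
        rw [Perm.mul_apply, swap_apply_of_ne_of_ne h.2.2.1 h.2.2.2,
          swap_apply_of_ne_of_ne h.1 h.2.1]
    have hu2 : u * u = D.z := D.sq_dt hu hab hcd hca.symm had hcb.symm hbd hu'
    have hgg : g * g = D.z * (u⁻¹ * g * (u⁻¹ * g)) := by
      rw [← hu2]
      calc g * g = u * (u⁻¹ * g * u) * (u⁻¹ * g) := by group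
        _ = u * (u * (u⁻¹ * g)) * (u⁻¹ * g) := by rw [hcomm.eq]
        _ = _ := by group
    refine ⟨by omega, fun h8 => ?_, fun h8 => ?_⟩
    · rw [hgg, i3 (by omega), D.sq_z]
    · rw [hgg, i2 (by omega), mul_one]

/-- An involution of the centralizer other than `z` moves a multiple of eight points. -/
theorem invol_support {g : G} (hg : Commute g D.z) (h2 : g * g = 1) :
    8 ∣ (D.p g).support.card := by
  obtain ⟨-, -, h⟩ := D.sq_invol _ hg rfl (by rw [← D.p_mul hg hg, h2, D.p_one])
  by_contra h8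
  exact D.z_ne ((h h8).symm.trans h2)

/-- The data with the points renamed. -/
def relabel (τ : Perm (Fin n)) : DAlt G n where
  z := D.z
  p g := τ * D.p g * τ⁻¹
  sq_z := D.sq_z
  z_ne := D.z_ne
  p_mul {g h} hg hh := by rw [D.p_mul hg hh]; group
  p_z := by rw [D.p_z, mul_one, mul_inv_cancel]
  sign_p {g} hg := by rw [map_mul, map_mul, D.sign_p hg, mul_one, ← map_mul, mul_inv_cancel, map_one]
  surj {σ} hσ := by
    obtain ⟨g, hg, h⟩ := D.surj (σ := τ⁻¹ * σ * τ)
      (by rw [map_mul, map_mul, hσ, mul_one, ← map_mul, inv_mul_cancel, map_one])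
    exact ⟨g, hg, by rw [h]; group⟩
  ker {g} hg h := D.ker hg (by
    calc D.p g = τ⁻¹ * (τ * D.p g * τ⁻¹) * τ := by group
      _ = 1 := by rw [h]; group)
  sq_dt {g} hg {a b c d} h1 h2 h3 h4 h5 h6 h := by
    have ne : ∀ {x y : Fin n}, x ≠ y → τ.symm x ≠ τ.symm y := fun h => τ.symm.injective.ne h
    refine D.sq_dt hg (ne h1) (ne h2) (ne h3) (ne h4) (ne h5) (ne h6) ?_
    calc D.p g = τ⁻¹ * (τ * D.p g * τ⁻¹) * τ := by group
      _ = (τ⁻¹ * swap a b * (τ⁻¹)⁻¹) * (τ⁻¹ * swap c d * (τ⁻¹)⁻¹) := by rw [h]; group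
      _ = _ := by rw [← swap_apply_apply, ← swap_apply_apply]; rfl

@[simp] theorem relabel_z (τ : Perm (Fin n)) : (D.relabel τ).z = D.z := rfl

theorem relabel_p (τ : Perm (Fin n)) (g : G) : (D.relabel τ).p g = τ * D.p g * τ⁻¹ := rfl

end DAlt

variable {G : Type u} [Group G] [Finite G] {n : ℕ}

/-- The data attached to an involution with non-split double cover centralizer. -/
theorem exists_dalt (hn : 8 ≤ n) (z : G) (hz : orderOf z = 2)
    (hcov : IsNonsplitDoubleCover (Subgroup.centralizer ({z} : Set G)) (alternatingGroup (Fin n))) :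
    ∃ D : DAlt G n, D.z = z := by
  classical
  set C := Subgroup.centralizer ({z} : Set G)
  have hmem : ∀ g, g ∈ C ↔ Commute g z := fun g => Subgroup.mem_centralizer_singleton_iff
  obtain ⟨π, hker, hr, hsq⟩ := cover_square hn hcov
  have hz2 : z * z = 1 := by rw [← sq, ← hz, pow_orderOf_eq_one]
  have hz1 : z ≠ 1 := fun e => by rw [e, orderOf_one] at hz; omega
  let zC : C := ⟨z, (hmem z).2 (Commute.refl z)⟩
  have hzcen : zC ∈ Subgroup.center C :=
    Subgroup.mem_center_iff.2 fun g => Subtype.ext ((hmem g.1).1 g.2).eq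
  have hcen : ∀ g ∈ Subgroup.center C, g = 1 ∨ g = zC := by
    intro g hg
    obtain ⟨p, q, -, hpq⟩ := Nat.card_eq_two_iff.1 hcov.1
    have hm : ∀ v : Subgroup.center C, v = p ∨ v = q := fun v => by
      have hv : v ∈ ({p, q} : Set _) := hpq ▸ Set.mem_univ v
      simpa using hv
    have e : (⟨zC, hzcen⟩ : Subgroup.center C) ≠ 1 := fun h =>
      hz1 (congrArg (fun v : Subgroup.center C => ((v : C) : G)) h)
    suffices (⟨g, hg⟩ : Subgroup.center C) = 1 ∨ (⟨g, hg⟩ : Subgroup.center C) = ⟨zC, hzcen⟩ from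
      this.imp (congrArg Subtype.val) (congrArg Subtype.val)
    rcases hm ⟨g, hg⟩ with h | h <;> rcases hm ⟨zC, hzcen⟩ with h' | h' <;> rcases hm 1 with h'' | h'' <;>
      simp_all
  let p : G → Perm (Fin n) := fun g => if h : g ∈ C then π ⟨g, h⟩ else 1
  have hp : ∀ {g : G} (h : Commute g z), p g = π ⟨g, (hmem g).2 h⟩ := fun h => dif_pos ((hmem _).2 h)
  refine ⟨⟨z, p, hz2, hz1, ?_, ?_, ?_, ?_, ?_, ?_⟩, rfl⟩
  · intro g h hg hh
    rw [hp hg, hp hh, hp (hg.mul_left hh), ← map_mul]
    rfl
  · rw [hp (Commute.refl z), ← MonoidHom.mem_ker, hker]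
    exact hzcen
  · intro g hg
    rw [hp hg, ← mem_alternatingGroup, ← hr]
    exact ⟨_, rfl⟩
  · intro σ hσ
    obtain ⟨g, hg⟩ : σ ∈ π.range := by rw [hr]; exact mem_alternatingGroup.2 hσ
    exact ⟨g, (hmem g.1).1 g.2, by rw [hp ((hmem g.1).1 g.2)]; exact hg⟩
  · intro g hg h
    rw [hp hg, ← MonoidHom.mem_ker, hker] at h
    rcases hcen _ h with e | e
    · exact Or.inl (congrArg Subtype.val e)
    · exact Or.inr (congrArg Subtype.val e)
  · intro g hg a b c d h1 h2 h3 h4 h5 h6 h
    rw [hp hg] at h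
    set gC : C := ⟨g, (hmem g).2 hg⟩
    have hc : gC * gC ∈ Subgroup.center C := by
      rw [← hker, MonoidHom.mem_ker, map_mul, h]
      have hcomm : Commute (swap a b) (swap c d) := Perm.Disjoint.commute fun x => by
        rcases eq_or_ne x a with rfl | ha
        · exact Or.inr (swap_apply_of_ne_of_ne h3 h4)
        rcases eq_or_ne x b with rfl | hb
        · exact Or.inr (swap_apply_of_ne_of_ne h5 h6)
        exact Or.inl (swap_apply_of_ne_of_ne ha hb)
      rw [mul_assoc, ← mul_assoc (swap c d), ← hcomm.eq, mul_assoc (swap a b), swap_mul_self, mul_one,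
        swap_mul_self]
    rcases hcen _ hc with e | e
    · exact absurd e (hsq gC a b c d h1 h2 h3 h4 h5 h6 h)
    · exact congrArg Subtype.val e

end Cfsg.Agent.Spor.DoubleAlt
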