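import Cfsg.Agent.Lib.Spor.DoubleAlt.Big

/-!
# At most eleven points

With four pairs and at least five points outside, `z` lies in a perfect subgroup of `C(z) ∩ C(w)`
while `x` lies in none of `C(z) ∩ C(x)`; with four points outside, small classes of elements of
order three separate the two involutions.
-/

set_option autoImplicit false
set_option linter.style.haveILetI false
set_option linter.unusedSectionVars false

open Equiv Equiv.Perm
open scoped commutatorElement

namespace Cfsg.Agent.Spor.DoubleAlt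

universe u

theorem solvable_perfect_bot {S : Type*} [Group S] [Group.IsSolvable S] (M : Subgroup S)
    (h : M ≤ ⁅M, M⁆) : M = ⊥ := by
  have hk : ∀ k, M ≤ derivedSeries S k := by
    intro k
    induction k with
    | zero => exact le_top
    | succ k ih => exact h.trans (Subgroup.commutator_mono ih ih)
  obtain ⟨k, hk'⟩ := Group.IsSolvable.solvable (G := S)
  exact le_bot_iff.1 ((hk k).trans hk'.le)

/-- Conjugating elements for four elements of order three in the symmetric group on four letters. -/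
theorem four_conjugates : ∀ ρ : Perm (Fin 4), ρ ^ 3 = 1 → ρ ≠ 1 →
    ∃ s : Fin 4 → Perm (Fin 4), (∀ k, sign (s k) = 1) ∧
      Function.Injective fun k => s k * ρ * (s k)⁻¹ := by
  intro ρ h3 h1
  let s : Fin 4 → Perm (Fin 4) := ![1, swap 0 1 * swap 2 3, swap 0 2 * swap 1 3, swap 0 3 * swap 1 2]
  refine ⟨s, fun k => by fin_cases k <;> decide, ?_⟩
  revert ρ
  unfold Function.Injective
  decide

theorem three_cycle_count : (Finset.univ.filter fun k : Perm (Fin 4) => k ^ 3 = 1 ∧ k ≠ 1).card = 8 := by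
  decide

theorem three_cycle_pairs : ∀ ρ : Perm (Fin 4), ρ ^ 3 = 1 → ρ ≠ 1 → ∃ a b d : Fin 4,
    a ≠ b ∧ a ≠ d ∧ b ≠ d ∧ ρ a = b ∧ ρ d = d ∧ ρ b ≠ a ∧ ρ b ≠ b ∧ ρ b ≠ d := by
  decide

namespace DAlt

variable {G : Type u} [Group G] [Finite G] {n t : ℕ} (D : DAlt G n)

/-- The elements fixing the points of all pairs. -/
def outer {w : G} (P : Pairing (D.p w) t) : Subgroup G where
  carrier := {g | Commute g D.z ∧ ∀ v, D.p g (P.e v) = P.e v}
  one_mem' := ⟨Commute.one_left _, fun v => by rw [D.p_one, Perm.one_apply]⟩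
  mul_mem' := fun {g h} hg hh => ⟨hg.1.mul_left hh.1, fun v => by
    rw [D.p_mul hg.1 hh.1, Perm.mul_apply, hh.2, hg.2]⟩
  inv_mem' := fun {g} hg => ⟨hg.1.inv_left, fun v => by
    rw [D.p_inv hg.1]; exact Perm.inv_eq_iff_eq.2 (hg.2 v).symm⟩

theorem outer_le {w : G} (hw : Commute w D.z) (P : Pairing (D.p w) t) :
    D.outer P ≤ D.cent2 w := by
  rintro g ⟨hg, hg'⟩
  refine D.mem_cent2.2 ⟨hg, D.comm_disjoint hg hw fun a => ?_⟩
  by_cases ha : a ∈ Set.range P.e
  · obtain ⟨v, rfl⟩ := ha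
    exact Or.inl (hg' v)
  · exact Or.inr (P.fix a ha)

variable {x g w : G}

theorem comap_le_cent2 (hgx : g * x * g⁻¹ = D.z) (hgz : g * D.z * g⁻¹ = w) {K : Subgroup G}
    (hK : K ≤ D.cent2 w) : K.comap (MulAut.conj g).toMonoidHom ≤ D.cent2 x := by
  intro a ha
  have h' : g * a * g⁻¹ ∈ (D.cent2 x).map (MulAut.conj g).toMonoidHom := by
    rw [D.cent2_transfer hgx hgz]; exact hK ha
  obtain ⟨b, hb, hba⟩ := h'
  rwa [(MulAut.conj g).injective hba] at hb

theorem le_twelve (hx : Commute x D.z) (P : Pairing (D.p x) 4) (hwz : Commute w D.z)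
    (P' : Pairing (D.p w) 4) (hgx : g * x * g⁻¹ = D.z) (hgz : g * D.z * g⁻¹ = w) : n ≤ 12 := by
  classical
  by_contra hn
  push Not at hn
  let q : Fin n → Prop := fun a => a ∉ Set.range P'.e
  have hq : 5 ≤ Nat.card (Subtype q) := by
    have h1 : Fintype.card {a // ¬ a ∈ Set.range P'.e} = n - 8 := by
      rw [Fintype.card_subtype_compl, Fintype.card_fin]
      have : Fintype.card {a // a ∈ Set.range P'.e} = 8 := by
        rw [← Fintype.card_congr (Equiv.ofInjective _ P'.e.injective), Fintype.card_prod, Fintype.card_fin,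
          Fintype.card_bool]
      rw [this]
    rw [Nat.card_eq_fintype_card, show Fintype.card (Subtype q) = n - 8 from h1]
    omega
  set K := D.outer P' with hK
  let emb : Perm (Subtype q) →* Perm (Fin n) := Perm.ofSubtype
  have hembfix : ∀ k v, emb k (P'.e v) = P'.e v := fun k v =>
    Perm.ofSubtype_apply_of_not_mem k (fun h => h ⟨v, rfl⟩)
  have hlift : ∀ k : Perm (Subtype q), sign k = 1 → ∃ u ∈ K, D.p u = emb k := fun k hk => by
    obtain ⟨u, hu, hu'⟩ := D.surj (σ := emb k) (by rw [sign_ofSubtype, hk])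
    exact ⟨u, ⟨hu, fun v => by rw [hu', hembfix]⟩, hu'⟩
  have himg : ∀ u ∈ K, ∃ k : Perm (Subtype q), sign k = 1 ∧ D.p u = emb k := by
    rintro u ⟨hu, hu'⟩
    have h1 : ∀ a, q (D.p u a) ↔ q a := by
      intro a
      constructor <;> rintro h ⟨v, hv⟩
      · exact h ⟨v, by rw [← hv, hu']⟩
      · exact h ⟨v, (D.p u).injective ((hu' v).trans hv)⟩
    have h2 : ∀ a, D.p u a ≠ a → q a := fun a ha ⟨v, hv⟩ => ha (hv ▸ hu' v)
    refine ⟨(D.p u).subtypePerm h1, ?_, (Perm.ofSubtype_subtypePerm h1 h2).symm⟩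
    rw [← sign_ofSubtype, Perm.ofSubtype_subtypePerm h1 h2, D.sign_p hu]
  -- the derived subgroup covers
  have hKz : ∀ u ∈ K, Commute u D.z := fun u hu => hu.1
  have hKK : ⁅K, K⁆ ≤ K := (Subgroup.commutator_le_sup K K).trans_eq (sup_idem K)
  have hcov : ∀ k : Perm (Subtype q), sign k = 1 → ∃ u ∈ ⁅K, K⁆, D.p u = emb k := by
    let M : Subgroup (alternatingGroup (Subtype q)) :=
      { carrier := {k | ∃ u ∈ ⁅K, K⁆, D.p u = emb k}
        one_mem' := ⟨1, one_mem _, by rw [D.p_one, OneMemClass.coe_one, map_one]⟩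
        mul_mem' := by
          rintro a b ⟨u, hu, hu'⟩ ⟨v, hv, hv'⟩
          exact ⟨u * v, mul_mem hu hv, by rw [D.p_mul (hKz u (hKK hu)) (hKz v (hKK hv)), hu', hv',
            Subgroup.coe_mul, map_mul]⟩
        inv_mem' := by
          rintro a ⟨u, hu, hu'⟩
          exact ⟨u⁻¹, inv_mem hu, by rw [D.p_inv (hKz u (hKK hu)), hu', InvMemClass.coe_inv, map_inv]⟩ }
    have hM : commutator (alternatingGroup (Subtype q)) ≤ M := by
      rw [commutator_def, Subgroup.commutator_le]
      intro a _ b _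
      obtain ⟨u, hu, hu'⟩ := hlift a (mem_alternatingGroup.1 a.2)
      obtain ⟨v, hv, hv'⟩ := hlift b (mem_alternatingGroup.1 b.2)
      refine ⟨⁅u, v⁆, Subgroup.commutator_mem_commutator hu hv, ?_⟩
      have huz := hKz u hu
      have hvz := hKz v hv
      rw [commutatorElement_def, D.p_mul ((huz.mul_left hvz).mul_left huz.inv_left) hvz.inv_left,
        D.p_mul (huz.mul_left hvz) huz.inv_left, D.p_mul huz hvz, D.p_inv huz, D.p_inv hvz, hu', hv']
      simp [commutatorElement_def]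
    intro k hk
    rw [commutator_alternatingGroup_eq_top hq] at hM
    exact hM (Subgroup.mem_top ⟨k, mem_alternatingGroup.2 hk⟩)
  have hzK : D.z ∈ ⁅K, K⁆ := by
    obtain ⟨o⟩ := Function.Embedding.nonempty_of_card_le (α := Fin 4) (β := Subtype q) (by
      rw [Fintype.card_fin, ← Nat.card_eq_fintype_card (α := Subtype q)]; omega)
    have ne : ∀ {a b : Fin 4}, a ≠ b → o a ≠ o b := fun h => o.injective.ne h
    obtain ⟨u, hu, hu'⟩ := hcov (swap (o 0) (o 1) * swap (o 2) (o 3)) (by
      rw [map_mul, sign_swap (ne (by decide)), sign_swap (ne (by decide))]; rfl)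
    have ne' : ∀ {a b : Fin 4}, a ≠ b → (o a : Fin n) ≠ o b := fun h => Subtype.val_injective.ne (ne h)
    have h := D.sq_dt (hKz u (hKK hu)) (ne' (show (0 : Fin 4) ≠ 1 by decide))
      (ne' (show (2 : Fin 4) ≠ 3 by decide)) (ne' (show (0 : Fin 4) ≠ 2 by decide))
      (ne' (show (0 : Fin 4) ≠ 3 by decide)) (ne' (show (1 : Fin 4) ≠ 2 by decide))
      (ne' (show (1 : Fin 4) ≠ 3 by decide))
      (by rw [hu', map_mul]; simp only [emb, Perm.ofSubtype_swap_eq])
    rw [← h]
    exact mul_mem hu hu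
  have hperf : K ≤ ⁅K, K⁆ := by
    intro u hu
    obtain ⟨k, hk, hk'⟩ := himg u hu
    obtain ⟨v, hv, hv'⟩ := hcov k hk
    rcases D.eq_or (hKz v (hKK hv)) (hKz u hu) (hv'.trans hk'.symm) with rfl | rfl
    · exact hv
    · exact mul_mem hv hzK
  -- transport
  set N := K.comap (MulAut.conj g).toMonoidHom with hN
  have hmap : N.map (MulAut.conj g).toMonoidHom = K :=
    Subgroup.map_comap_eq_self_of_surjective (MulAut.conj g).surjective K
  have hNle : N ≤ D.cent2 x := D.comap_le_cent2 hgx hgz (D.outer_le hwz P')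
  have hNperf : N ≤ ⁅N, N⁆ := by
    rw [← Subgroup.map_le_map_iff_of_injective (MulAut.conj g).injective (f := (MulAut.conj g).toMonoidHom),
      Subgroup.map_commutator, hmap]
    exact hperf
  set ψ := D.pairHom P hx
  haveI := Cfsg.Agent.Perm.Fpf.solvable_perm_four
  have hψ : (N.subgroupOf (D.cent2 x)).map ψ = ⊥ := by
    refine solvable_perfect_bot _ ?_
    rw [← Subgroup.map_commutator]
    refine Subgroup.map_mono fun a ha => ?_
    have h2 : ((a : G)) ∈ (⁅N.subgroupOf (D.cent2 x), N.subgroupOf (D.cent2 x)⁆).map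
        (D.cent2 x).subtype := by
      rw [Subgroup.map_commutator, Subgroup.map_subgroupOf_eq_of_le hNle]
      exact hNperf (Subgroup.mem_subgroupOf.1 ha)
    obtain ⟨b, hb, hba⟩ := h2
    rwa [(D.cent2 x).subtype_injective hba] at hb
  refine D.notMem_commutator hx P (by norm_num) hNle (fun k hk => ?_) (hNperf ?_)
  · rw [← Subgroup.mem_bot, ← hψ]
    exact ⟨k, Subgroup.mem_subgroupOf.2 hk, rfl⟩
  · show g * x * g⁻¹ ∈ K
    rw [hgx]
    exact hKK hzK

/-- Small classes of elements of order three fix every pair. -/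
theorem small_class_pairs (hx : Commute x D.z) (P : Pairing (D.p x) 4) (y : D.cent2 x)
    (hy : (y : G) ^ 3 = 1) (hcl : Nat.card (Set.range fun h : D.cent2 x => h * y * h⁻¹) ≤ 8)
    (v : Fin 4 × Bool) : D.p y (P.e v) = P.e v := by
  classical
  set ψ := D.pairHom P hx with hψ
  have hyz : Commute (y : G) D.z := (D.mem_cent2.1 y.2).1
  by_cases hρ : ψ y = 1
  · obtain ⟨i, b⟩ := v
    obtain ⟨c, hc⟩ := D.pairHom_spec P hx y i b
    obtain ⟨d, hd⟩ := D.pairHom_spec P hx y i c
    obtain ⟨f, hf⟩ := D.pairHom_spec P hx y i d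
    rw [← hψ, hρ, Perm.one_apply] at hc hd hf
    have h3 : D.p y (D.p y (D.p y (P.e (i, b)))) = P.e (i, b) := by
      rw [← Perm.mul_apply, ← Perm.mul_apply, ← D.p_mul hyz hyz, ← D.p_mul (hyz.mul_left hyz) hyz,
        show (y : G) * y * y = (y : G) ^ 3 by rw [pow_succ, pow_two], hy, D.p_one, Perm.one_apply]
    rw [hc, hd, hf] at h3
    have hb : f = b := by simpa using P.e.injective h3
    rw [hc]
    subst hb
    cases f <;> cases c <;> first | rfl | skip
    all_goals
      exfalso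
      cases d
      all_goals first
        | exact absurd (P.e.injective ((D.p _).injective (hc.trans hd.symm))) (by simp)
        | exact absurd (P.e.injective ((D.p _).injective (hd.trans hf.symm))) (by simp)
        | exact absurd (P.e.injective ((D.p _).injective (hc.trans hf.symm))) (by simp)
  exfalso
  set ρ := ψ y
  have hρ3 : ρ ^ 3 = 1 := by rw [← map_pow, show y ^ 3 = 1 from Subtype.ext hy, map_one]
  obtain ⟨s, hs, hsinj⟩ := four_conjugates ρ hρ3 hρ
  choose S hS using fun k => D.alternating_le_range P hx (mem_alternatingGroup.2 (hs k))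
  obtain ⟨a, b, d, hab, had, hbd, hρa, hρd, hρb⟩ := three_cycle_pairs ρ hρ3 hρ
  obtain ⟨u₁, hu₁, hu₁'⟩ := D.exists_flip2 P a d
  obtain ⟨u₂, hu₂, hu₂'⟩ := D.exists_flip2 P b d
  let f₁ : D.cent2 x := ⟨u₁, D.mem_cent2.2 ⟨hu₁, D.flip2_lift_comm P had hx hu₁ hu₁'⟩⟩
  let f₂ : D.cent2 x := ⟨u₂, D.mem_cent2.2 ⟨hu₂, D.flip2_lift_comm P hbd hx hu₂ hu₂'⟩⟩
  have hflip : ∀ {i j : Fin 4} (f : D.cent2 x), i ≠ j → D.p f = P.flip i * P.flip j → ψ f = 1 := by
    intro i j f hij hf
    ext k : 1
    rcases eq_or_ne k i with rfl | hki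
    · exact D.pairHom_eq P hx f (b := false) (b' := true) (by rw [hf, P.flip2_left hij]; rfl)
    rcases eq_or_ne k j with rfl | hkj
    · exact D.pairHom_eq P hx f (b := false) (b' := true) (by rw [hf, P.flip2_right hij]; rfl)
    exact D.pairHom_eq P hx f (b := false) (b' := false) (by rw [hf, P.flip2_other hki hkj]; rfl)
  have hψ1 : ψ f₁ = 1 := hflip f₁ had hu₁'
  have hψ2 : ψ f₂ = 1 := hflip f₂ hbd hu₂'
  -- a double flip commuting with `y` has an invariant pair of pairs
  have hnc : ∀ {i j : Fin 4} (f : D.cent2 x), i ≠ j → D.p f = P.flip i * P.flip j →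
      (ρ i ≠ i ∧ ρ i ≠ j) → f * y ≠ y * f := by
    intro i j f hij hf ⟨hi, hj⟩ he
    have h1 : D.p (f : G) * D.p y = D.p y * D.p f := by
      rw [← D.p_mul (D.mem_cent2.1 f.2).1 hyz, ← D.p_mul hyz (D.mem_cent2.1 f.2).1,
        ← Subgroup.coe_mul, he, Subgroup.coe_mul]
    obtain ⟨c, hc⟩ := D.pairHom_spec P hx y i false
    have h2 := DFunLike.congr_fun h1 (P.e (i, false))
    rw [Perm.mul_apply, Perm.mul_apply, hc, hf, P.flip2_left hij, P.flip2_other hi hj, ← hc] at h2
    exact absurd (P.e.injective ((D.p _).injective h2)) (by simp)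
  let f : Fin 3 → D.cent2 x := ![1, f₁, f₂]
  have hψf : ∀ l, ψ (f l) = 1 := by
    intro l; fin_cases l
    · exact map_one ψ
    · exact hψ1
    · exact hψ2
  have hfinj : Function.Injective fun l => f l * y * (f l)⁻¹ := by
    have key : ∀ {g h : D.cent2 x}, g * y * g⁻¹ = h * y * h⁻¹ → h⁻¹ * g * y = y * (h⁻¹ * g) := by
      intro g h e
      calc h⁻¹ * g * y = h⁻¹ * (g * y * g⁻¹) * g := by group
        _ = y * (h⁻¹ * g) := by rw [e]; group
    have c1 : f₁ * y ≠ y * f₁ := hnc f₁ had hu₁' (by rw [hρa]; exact ⟨hab.symm, hbd⟩)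
    have c2 : f₂ * y ≠ y * f₂ := hnc f₂ hbd hu₂' ⟨hρb.2.1, hρb.2.2⟩
    have c12 : f₂⁻¹ * f₁ * y ≠ y * (f₂⁻¹ * f₁) := by
      refine hnc (f₂⁻¹ * f₁) (i := b) (j := a) hab.symm ?_ ⟨hρb.2.1, hρb.1⟩
      show D.p (u₂⁻¹ * u₁) = _
      rw [D.p_mul hu₂.inv_left hu₁, D.p_inv hu₂, hu₁', hu₂', mul_inv_rev, Pairing.flip, Pairing.flip,
        Pairing.flip, swap_inv, swap_inv]
      have hcm : Commute (swap (P.e (d, false)) (P.e (d, true))) (swap (P.e (a, false)) (P.e (a, true))) :=
        Perm.Disjoint.commute fun v => by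
          by_cases h : v = P.e (d, false) ∨ v = P.e (d, true)
          · refine Or.inr ?_
            rcases h with rfl | rfl <;>
              exact swap_apply_of_ne_of_ne (P.e.injective.ne (by simp [had.symm]))
                (P.e.injective.ne (by simp [had.symm]))
          · push Not at h
            exact Or.inl (swap_apply_of_ne_of_ne h.1 h.2)
      rw [hcm.symm.eq]
      have hcm2 : Commute (swap (P.e (d, false)) (P.e (d, true))) (swap (P.e (b, false)) (P.e (b, true))) :=
        Perm.Disjoint.commute fun v => by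
          by_cases h : v = P.e (d, false) ∨ v = P.e (d, true)
          · refine Or.inr ?_
            rcases h with rfl | rfl <;>
              exact swap_apply_of_ne_of_ne (P.e.injective.ne (by simp [hbd.symm]))
                (P.e.injective.ne (by simp [hbd.symm]))
          · push Not at h
            exact Or.inl (swap_apply_of_ne_of_ne h.1 h.2)
      rw [hcm2.eq, mul_assoc, ← mul_assoc (swap (P.e (d, false)) (P.e (d, true))), swap_mul_self, one_mul]
    intro l m e
    have h := key e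
    have h' := key e.symm
    fin_cases l <;> fin_cases m <;> first
      | rfl
      | (exfalso; simp only [f, Matrix.cons_val_zero, Matrix.cons_val_one, Fin.zero_eta, Fin.mk_one,
          Fin.reduceFinMk, Matrix.cons_val, inv_one, one_mul, mul_one] at h h'
         first | exact c1 h | exact c1 h' | exact c2 h | exact c2 h' | exact c12 h | exact c12 h')
  have hinj : Function.Injective fun kl : Fin 4 × Fin 3 =>
      (⟨S kl.1 * f kl.2 * y * (S kl.1 * f kl.2)⁻¹, ⟨S kl.1 * f kl.2, rfl⟩⟩ :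
        Set.range fun h : D.cent2 x => h * y * h⁻¹) := by
    rintro ⟨k, l⟩ ⟨k', l'⟩ e
    replace e : S k * f l * y * (S k * f l)⁻¹ = S k' * f l' * y * (S k' * f l')⁻¹ :=
      congrArg Subtype.val e
    obtain rfl : k = k' := hsinj (by
      have := congrArg ψ e
      simp only [map_mul, map_inv, hψf, mul_one] at this
      rw [hψ, hS, hS] at this
      exact this)
    obtain rfl : l = l' := hfinj (by
      show f l * y * (f l)⁻¹ = f l' * y * (f l')⁻¹
      calc f l * y * (f l)⁻¹ = (S k)⁻¹ * (S k * f l * y * (S k * f l)⁻¹) * S k := by group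
        _ = _ := by rw [e]; group)
    rfl
  have := (Nat.card_le_card_of_injective _ hinj).trans hcl
  rw [Nat.card_prod, Nat.card_fin, Nat.card_fin] at this
  exact absurd this (by norm_num)

theorem ne_twelve (hx : Commute x D.z) (P : Pairing (D.p x) 4) (hwz : Commute w D.z)
    (P' : Pairing (D.p w) 4) (hgx : g * x * g⁻¹ = D.z) (hgz : g * D.z * g⁻¹ = w) : n ≠ 12 := by
  classical
  intro hn
  let q : Fin n → Prop := fun a => a ∉ Set.range P'.e
  have hq : Fintype.card (Subtype q) = 4 := by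
    have h1 : Fintype.card {a // ¬ a ∈ Set.range P'.e} = n - 8 := by
      rw [Fintype.card_subtype_compl, Fintype.card_fin]
      have : Fintype.card {a // a ∈ Set.range P'.e} = 8 := by
        rw [← Fintype.card_congr (Equiv.ofInjective _ P'.e.injective), Fintype.card_prod, Fintype.card_fin,
          Fintype.card_bool]
      rw [this]
    rw [show Fintype.card (Subtype q) = n - 8 from h1]
    omega
  obtain ⟨ε⟩ : Nonempty (Fin 4 ≃ Subtype q) := ⟨(Fintype.equivFinOfCardEq hq).symm⟩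
  let emb : Perm (Fin 4) →* Perm (Fin n) :=
    (Perm.ofSubtype (p := q)).comp ε.permCongrHom.toMonoidHom
  have hembfix : ∀ k v, emb k (P'.e v) = P'.e v := fun k v =>
    Perm.ofSubtype_apply_of_not_mem _ (fun h => h ⟨v, rfl⟩)
  have hlift : ∀ k : Perm (Fin 4), k ^ 3 = 1 → ∃ u ∈ D.outer P', u ^ 3 = 1 ∧ D.p u = emb k := by
    intro k hk
    obtain ⟨u, hu, hu', hu3⟩ := D.exists_odd_lift (σ := emb k) (m := 3) ⟨1, rfl⟩
      (by rw [← map_pow, hk, map_one])
    exact ⟨u, ⟨hu, fun v => by rw [hu', hembfix]⟩, hu3, hu'⟩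
  -- the classes of the outer lifts are small
  have hsmall : ∀ u : D.cent2 w, (u : G) ^ 3 = 1 → (u : G) ∈ D.outer P' → D.p u ≠ 1 →
      Nat.card (Set.range fun h : D.cent2 w => h * u * h⁻¹) ≤ 8 := by
    intro u hu3 huK hu1
    have hmem : ∀ h : D.cent2 w, ∃ k : {k : Perm (Fin 4) // k ^ 3 = 1 ∧ k ≠ 1},
        D.p ((h * u * h⁻¹ : D.cent2 w) : G) = emb k.1 := by
      intro h
      obtain ⟨hhz, hhw⟩ := D.mem_cent2.1 h.2
      have huz := huK.1
      set c : G := ((h * u * h⁻¹ : D.cent2 w) : G) with hc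
      have hcz : Commute c D.z := D.comm_conj hhz huz
      have hpc : D.p c = D.p h * D.p u * (D.p h)⁻¹ := D.p_conj hhz huz
      have hfix : ∀ a, a ∈ Set.range P'.e → D.p c a = a := by
        intro a ha
        have ha' : (D.p h)⁻¹ a ∈ Set.range P'.e := by
          rw [P'.mem_iff] at ha ⊢
          have hcm : Commute (D.p h) (D.p w) :=
            Subgroup.mem_centralizer_singleton_iff.1 (D.p_mem_centralizer hwz hhz hhw)
          intro e
          apply ha
          have := congrArg (D.p h) e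
          rw [← Perm.mul_apply, hcm.eq, Perm.mul_apply] at this
          simpa using this
        obtain ⟨v, hv⟩ := ha'
        rw [hpc, Perm.mul_apply, Perm.mul_apply, ← hv, huK.2, hv]
        exact (D.p h).apply_symm_apply a
      have h1 : ∀ a, q (D.p c a) ↔ q a := by
        intro a
        constructor <;> intro h ha <;> refine h ?_
        · rwa [hfix a ha]
        · have := hfix _ ha
          rwa [(D.p c).injective this] at ha
      have h2 : ∀ a, D.p c a ≠ a → q a := fun a ha h => ha (hfix a h)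
      set k := ε.permCongrHom.symm ((D.p c).subtypePerm h1) with hkdef
      have hk : emb k = D.p c := by
        simp only [emb, hkdef, MonoidHom.comp_apply, MulEquiv.coe_toMonoidHom, MulEquiv.apply_symm_apply]
        exact Perm.ofSubtype_subtypePerm h1 h2
      have hembinj : Function.Injective emb :=
        Perm.ofSubtype_injective.comp ε.permCongrHom.injective
      refine ⟨⟨k, hembinj ?_, fun e => hu1 ?_⟩, hk.symm⟩
      · rw [map_pow, hk, map_one, ← D.p_pow hcz,
          show c ^ 3 = 1 by rw [hc, Subgroup.coe_mul, Subgroup.coe_mul, Subgroup.coe_inv, conj_pow, hu3]; group,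
          D.p_one]
      · rw [e, map_one, hpc] at hk
        exact conj_eq_one_iff.1 hk.symm
    let T := (Finset.univ.filter fun k : Perm (Fin 4) => k ^ 3 = 1 ∧ k ≠ 1).image emb
    have hT : ∀ c : Set.range (fun h : D.cent2 w => h * u * h⁻¹), D.p ((c : D.cent2 w) : G) ∈ T := by
      rintro ⟨_, h, rfl⟩
      obtain ⟨k, hk⟩ := hmem h
      exact Finset.mem_image.2 ⟨k.1, by simp [k.2], hk.symm⟩
    refine (Nat.card_le_card_of_injective (fun c => (⟨_, hT c⟩ : T)) ?_).trans ?_
    · rintro ⟨_, h, rfl⟩ ⟨_, h', rfl⟩ e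
      refine Subtype.ext (Subtype.ext ?_)
      refine D.odd_lift_unique (D.mem_cent2.1 (h * u * h⁻¹).2).1 (D.mem_cent2.1 (h' * u * h'⁻¹).2).1
        (m := 3) ⟨1, rfl⟩ ?_ ?_ (congrArg Subtype.val e)
      · rw [Subgroup.coe_mul, Subgroup.coe_mul, Subgroup.coe_inv, conj_pow, hu3, mul_one, mul_inv_cancel]
      · rw [Subgroup.coe_mul, Subgroup.coe_mul, Subgroup.coe_inv, conj_pow, hu3, mul_one, mul_inv_cancel]
    · rw [Nat.card_eq_finsetCard]
      exact Finset.card_image_le.trans three_cycle_count.le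
  -- two lifts with product a lift of a double transposition
  obtain ⟨u₁, hu₁, hu₁3, hu₁'⟩ := hlift (swap 0 1 * swap 1 2) (by decide)
  obtain ⟨u₂, hu₂, hu₂3, hu₂'⟩ := hlift (swap 0 1 * swap 1 3) (by decide)
  have hne : ∀ {k : Perm (Fin 4)}, k ≠ 1 → emb k ≠ 1 := fun h e =>
    h (ε.permCongrHom.injective ((Perm.ofSubtype_injective (e.trans (map_one _).symm)).trans (map_one _).symm))
  have hsq : u₁ * u₂ * (u₁ * u₂) = D.z := by
    have ne' : ∀ {a b : Fin 4}, a ≠ b → (ε a : Fin n) ≠ ε b := fun h =>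
      Subtype.val_injective.ne (ε.injective.ne h)
    refine D.sq_dt (hu₁.1.mul_left hu₂.1) (ne' (show (0 : Fin 4) ≠ 2 by decide))
      (ne' (show (1 : Fin 4) ≠ 3 by decide)) (ne' (show (0 : Fin 4) ≠ 1 by decide))
      (ne' (show (0 : Fin 4) ≠ 3 by decide)) (ne' (show (2 : Fin 4) ≠ 1 by decide))
      (ne' (show (2 : Fin 4) ≠ 3 by decide)) ?_
    rw [D.p_mul hu₁.1 hu₂.1, hu₁', hu₂', ← map_mul,
      show (swap 0 1 * swap 1 2 * (swap 0 1 * swap 1 3) : Perm (Fin 4)) = swap 0 2 * swap 1 3 by decide,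
      map_mul]
    have hsw : ∀ a b : Fin 4, ε.permCongrHom (swap a b) = swap (ε a) (ε b) := fun a b => by
      ext v : 1
      show ε (swap a b (ε.symm v)) = _
      rw [swap_apply_def, swap_apply_def]
      split_ifs <;> simp_all [Equiv.symm_apply_eq]
    simp only [emb, MonoidHom.comp_apply, MulEquiv.coe_toMonoidHom, hsw, Perm.ofSubtype_swap_eq]
  -- transport
  set y₁ : G := g⁻¹ * u₁ * g
  set y₂ : G := g⁻¹ * u₂ * g
  have hfix : ∀ u : G, u ∈ D.outer P' → u ^ 3 = 1 → D.p u ≠ 1 →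
      Commute (g⁻¹ * u * g) D.z ∧ ∀ v, D.p (g⁻¹ * u * g) (P.e v) = P.e v := by
    intro u huK hu3 hu1
    have hy : g⁻¹ * u * g ∈ D.cent2 x := by
      have := D.comap_le_cent2 hgx hgz (D.outer_le hwz P') (show g⁻¹ * u * g ∈ _ by
        show g * (g⁻¹ * u * g) * g⁻¹ ∈ D.outer P'
        rwa [show g * (g⁻¹ * u * g) * g⁻¹ = u by group])
      exact this
    refine ⟨(D.mem_cent2.1 hy).1, fun v => D.small_class_pairs hx P ⟨_, hy⟩ ?_ ?_ v⟩
    · show (g⁻¹ * u * g) ^ 3 = 1
      have := conj_pow (a := g⁻¹) (b := u) (i := 3)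
      rw [inv_inv] at this
      rw [this, hu3]; group
    · have hu' := D.outer_le hwz P' huK
      refine le_trans ?_ (hsmall ⟨u, hu'⟩ hu3 huK hu1)
      have hmap := D.cent2_transfer hgx hgz
      have hmem : ∀ h : D.cent2 x, g * (h : G) * g⁻¹ ∈ D.cent2 w := fun h => hmap.le ⟨h, h.2, rfl⟩
      have hval : ∀ (h : D.cent2 x), ((⟨g * (h : G) * g⁻¹, hmem h⟩ * ⟨u, hu'⟩ *
          (⟨g * (h : G) * g⁻¹, hmem h⟩)⁻¹ : D.cent2 w) : G) =
          g * ((h * ⟨_, hy⟩ * h⁻¹ : D.cent2 x) : G) * g⁻¹ := fun h => by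
        push_cast; group
      refine Nat.card_le_card_of_injective (fun c => ⟨⟨g * (c.1 : G) * g⁻¹, hmem c.1⟩, ?_⟩) ?_
      · obtain ⟨h, hh⟩ := c.2
        exact ⟨⟨g * (h : G) * g⁻¹, hmem h⟩, Subtype.ext ((hval h).trans (by rw [← hh]))⟩
      · intro c c' e
        have e' := congrArg (fun c => ((c.1 : D.cent2 w) : G)) e
        exact Subtype.ext (Subtype.ext (mul_left_cancel (mul_right_cancel e')))
  obtain ⟨hy₁, hy₁'⟩ := hfix u₁ hu₁ hu₁3 (hu₁' ▸ hne (by decide))
  obtain ⟨hy₂, hy₂'⟩ := hfix u₂ hu₂ hu₂3 (hu₂' ▸ hne (by decide))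
  have hx' : x = y₁ * y₂ * (y₁ * y₂) := by
    have : x = g⁻¹ * D.z * g := by rw [← hgx]; group
    rw [this, ← hsq]
    simp only [y₁, y₂]
    group
  have h2 : D.p (y₁ * y₂ * (y₁ * y₂)) (P.e (0, false)) = P.e (0, false) := by
    rw [D.p_mul (hy₁.mul_left hy₂) (hy₁.mul_left hy₂), D.p_mul hy₁ hy₂]
    simp only [Perm.mul_apply]
    rw [hy₂', hy₁', hy₂', hy₁']
  exact P.moved 0 false ((DFunLike.congr_fun (congrArg D.p hx') _).trans h2)

end DAlt

end Cfsg.Agent.Spor.DoubleAlt
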