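import Cfsg.Agent.Lib.Spor.DoubleAlt.Start
import Cfsg.Agent.Lib.Spor.DoubleAlt.Nine.Large

/-!
# The degree of an alternating group whose double cover centralizes an involution
-/

set_option autoImplicit false
set_option linter.style.haveILetI false
set_option linter.unusedSectionVars false
set_option maxHeartbeats 1000000

open Equiv Equiv.Perm

namespace Cfsg.Agent.Spor.DoubleAlt

open Nine

universe u

variable {G : Type u} [Group G] [Finite G] {m : ℕ}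

/-- A lift of `px` is conjugate to its product with `z`. -/
theorem DAlt.lift_px_swap (D : DAlt G (m + 9)) (hm : m ≤ 1) {X : G} (hX : Commute X D.z) (hpX : D.p X = px) :
    IsConj X (X * D.z) := by
  obtain ⟨s1, s2, e1, hd, hr⟩ : sign (ps : Perm (Fin (m + 9))) = 1 ∧ sign (pq1 : Perm (Fin (m + 9))) = 1 ∧
      (ps * pq1 : Perm (Fin (m + 9))) = swap 0 4 * swap 1 3 ∧ (pq1 * pr1 : Perm (Fin (m + 9))) = px ∧
      ∀ v, (ps : Perm (Fin (m + 9))) v = v ∨ (pr1 : Perm (Fin (m + 9))) v = v := by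
    interval_cases m <;> decide +kernel
  obtain ⟨d1, d2, d3, d4, d5, d6, d7, d8, d9, d10, d11, d12, d13, d14, d15, d16, d17, d18⟩ :
      ((0 : Fin (m + 9)) ≠ 1 ∧ (3 : Fin (m + 9)) ≠ 4 ∧ (0 : Fin (m + 9)) ≠ 3 ∧ (0 : Fin (m + 9)) ≠ 4 ∧
      (1 : Fin (m + 9)) ≠ 3 ∧ (1 : Fin (m + 9)) ≠ 4) ∧
      (0 : Fin (m + 9)) ≠ 3 ∧ (1 : Fin (m + 9)) ≠ 4 ∧ (0 : Fin (m + 9)) ≠ 1 ∧ (0 : Fin (m + 9)) ≠ 4 ∧
      (3 : Fin (m + 9)) ≠ 1 ∧ (3 : Fin (m + 9)) ≠ 4 ∧
      (0 : Fin (m + 9)) ≠ 4 ∧ (1 : Fin (m + 9)) ≠ 3 ∧ (0 : Fin (m + 9)) ≠ 1 ∧ (0 : Fin (m + 9)) ≠ 3 ∧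
      (4 : Fin (m + 9)) ≠ 1 ∧ (4 : Fin (m + 9)) ≠ 3 ∧
      (1 : Fin (m + 9)) ≠ 0 ∧ (4 : Fin (m + 9)) ≠ 0 ∧ (3 : Fin (m + 9)) ≠ 0 ∧ (4 : Fin (m + 9)) ≠ 1 ∧
      (3 : Fin (m + 9)) ≠ 1 := by
    interval_cases m <;> decide +kernel
  obtain ⟨d1a, d1b, d1c, d1d, d1e, d1f⟩ := d1
  obtain ⟨u, hu, hu'⟩ := D.surj s1
  obtain ⟨v, hv, hv'⟩ := D.surj s2
  have u2 := D.sq_dt hu d1a d1b d1c d1d d1e d1f hu'
  have v2 := D.sq_dt hv d2 d3 d4 d5 d6 d7 hv'
  have uv2 := D.sq_dt (hu.mul_left hv) d8 d9 d10 d11 d12 d13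
    (by rw [D.p_mul hu hv, hu', hv', e1])
  have h1 := D.anticomm hu hv u2 v2 uv2
  have h2 : Commute u (v⁻¹ * X) := D.comm_disjoint hu (hv.inv_left.mul_left hX) fun w => by
    rw [D.p_mul hv.inv_left hX, D.p_inv hv, hv', hpX, ← hd, inv_mul_cancel_left, hu']
    exact hr w
  refine isConj_iff.2 ⟨u, ?_⟩
  calc u * X * u⁻¹ = (u * v * u⁻¹) * (u * (v⁻¹ * X) * u⁻¹) := by group
    _ = v * D.z * (v⁻¹ * X) := by rw [h1, h2.eq, mul_inv_cancel_right]
    _ = X * D.z := by rw [hv.eq, mul_assoc, mul_inv_cancel_left, hX.eq]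

/-- With nine or ten points all involutions of the centralizer are conjugate to `z`. -/
theorem DAlt.all_fused (D : DAlt G (m + 9)) (hm : m ≤ 1) {g : G} (hc : Commute (g * D.z * g⁻¹) D.z)
    (hne : g * D.z * g⁻¹ ≠ D.z) {y : G} (hy : Commute y D.z) (hy2 : y * y = 1) (hy1 : y ≠ 1) :
    IsConj D.z y := by
  classical
  rcases eq_or_ne y D.z with rfl | hyz
  · exact IsConj.refl _
  have main : ∀ w : G, Commute w D.z → w * w = 1 → w ≠ 1 → w ≠ D.z →
      ∃ X, Commute X D.z ∧ D.p X = px ∧ IsConj w X := by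
    intro w hw hw2 hw1 hwz
    have hσ2 : D.p w * D.p w = 1 := by rw [← D.p_mul hw hw, hw2, D.p_one]
    have h8 := D.invol_support hw hw2
    have hle := Finset.card_le_univ (D.p w).support
    rw [Fintype.card_fin] at hle
    have hne0 : (D.p w).support.card ≠ 0 := by
      rw [Ne, Finset.card_eq_zero, Perm.support_eq_empty_iff]
      intro h
      rcases D.ker hw h with e | e
      exacts [hw1 e, hwz e]
    obtain ⟨τ, hτs, hτ⟩ := eight_conj hm hσ2 (by omega)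
    obtain ⟨u, hu, hu'⟩ := D.surj hτs
    exact ⟨u * w * u⁻¹, D.comm_conj hu hw, by rw [D.p_conj hu hw, hu', hτ], isConj_iff.2 ⟨u, rfl⟩⟩
  obtain ⟨X, hX, hpX, hXc⟩ := main _ hc (D.conj_ne hne).1 (D.conj_ne hne).2.1 hne
  obtain ⟨Y, hY, hpY, hYc⟩ := main y hy hy2 hy1 hyz
  have hzX : IsConj D.z X := (isConj_iff.2 ⟨g, rfl⟩ : IsConj D.z (g * D.z * g⁻¹)).trans hXc
  refine (?_ : IsConj D.z Y).trans hYc.symm
  rcases D.eq_or hX hY (hpX.trans hpY.symm) with e | e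
  · exact e ▸ hzX
  · exact e ▸ hzX.trans (D.lift_px_swap hm hX hpX)

/-- There is no such involution with nine or ten points. -/
theorem Ctx.no_nine_ten (K : Ctx G m) : False := by
  rcases K.U_cases with h | ⟨h0, h9⟩
  · exact K.U_ne_bot h
  · subst h0
    exact K.U_card_ne_nine h9

theorem degree_eight_or_eleven {G : Type u} [Group G] [Finite G] [IsSimpleGroup G] (n : ℕ) (hn : 5 ≤ n)
    (z : G) (hz : orderOf z = 2)
    (hcov : Cfsg.IsNonsplitDoubleCover (Subgroup.centralizer ({z} : Set G)) (alternatingGroup (Fin n))) :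
    n = 8 ∨ n = 11 := by
  haveI : Fact (Nat.Prime 2) := ⟨Nat.prime_two⟩
  obtain ⟨g, hgc, hgne⟩ := exists_fused (by omega) hz hcov
  have hz2 : z ^ 2 = 1 := hz ▸ pow_orderOf_eq_one z
  by_cases h7 : n ≤ 7
  · exfalso
    have hzC : z ∈ Subgroup.centralizer ({z} : Set G) := Subgroup.mem_centralizer_singleton_iff.2 rfl
    have hwC : g * z * g⁻¹ ∈ Subgroup.centralizer ({z} : Set G) :=
      Subgroup.mem_centralizer_singleton_iff.2 hgc.eq
    have h := Char.involution_unique_of_small h7 hcov ⟨g * z * g⁻¹, hwC⟩ ⟨z, hzC⟩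
      (by
        rw [← Subgroup.orderOf_coe]
        have := orderOf_injective (MulAut.conj g).toMonoidHom (MulAut.conj g).injective z
        simp only [MulEquiv.coe_toMonoidHom, MulAut.conj_apply] at this
        exact this.trans hz)
      (by rw [← Subgroup.orderOf_coe]; exact hz)
    exact hgne (congrArg Subtype.val h)
  by_cases h8 : n = 8
  · exact Or.inl h8
  obtain ⟨D, rfl⟩ := exists_dalt (n := n) (by omega) z hz hcov
  have h11 := D.le_eleven hgc hgne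
  by_cases h11' : n = 11
  · exact Or.inr h11'
  exfalso
  obtain ⟨m, rfl⟩ : ∃ m, n = m + 9 := ⟨n - 9, by omega⟩
  have hm : m ≤ 1 := by omega
  exact Ctx.no_nine_ten
    { toDAlt := D, hm := hm, fused := fun hy h2 h1 => D.all_fused hm hgc hgne hy h2 h1 }

end Cfsg.Agent.Spor.DoubleAlt
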