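import Cfsg.Agent.Lib.Spor.DoubleAlt.Defs

/-!
# The pairs of points interchanged by an involution

The centralizer of a fixed point free involution on `2t` points acts on the `t` pairs; flips of two
pairs and block permutations of odd order lift into the centralizer of a preimage.
-/

set_option autoImplicit false
set_option linter.style.haveILetI false
set_option linter.unusedSectionVars false

open Equiv Equiv.Perm

namespace Cfsg.Agent.Spor.DoubleAlt

universe u

variable {n t : ℕ}

/-- The pairs of points interchanged by `ξ`. -/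
structure Pairing (ξ : Perm (Fin n)) (t : ℕ) where
  /-- the points of the pairs -/
  e : Fin t × Bool ↪ Fin n
  swap_e : ∀ i b, ξ (e (i, b)) = e (i, !b)
  fix : ∀ x, x ∉ Set.range e → ξ x = x

theorem exists_pairing {ξ : Perm (Fin n)} (h2 : ξ * ξ = 1) :
    ∃ t, 2 * t = ξ.support.card ∧ Nonempty (Pairing ξ t) := by
  classical
  have hinv : ∀ x, ξ (ξ x) = x := fun x => by rw [← Perm.mul_apply, h2, Perm.one_apply]
  set S := Finset.univ.filter fun a => a < ξ a with hS
  have hmem : ∀ {a}, a ∈ S ↔ a < ξ a := fun {a} => by simp [hS]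
  let f : Fin S.card × Bool → Fin n := fun w =>
    if w.2 then ξ (S.equivFin.symm w.1 : Fin n) else (S.equivFin.symm w.1 : Fin n)
  have hf : Function.Injective f := by
    rintro ⟨i, b⟩ ⟨j, c⟩ h
    have hi := hmem.1 (S.equivFin.symm i).2
    have hj := hmem.1 (S.equivFin.symm j).2
    simp only [f] at h
    cases b <;> cases c <;> simp only [Bool.false_eq_true, if_false, if_true] at h
    · simpa using S.equivFin.symm.injective (Subtype.ext h)
    · rw [h, hinv] at hi
      exact absurd hi hj.not_gt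
    · rw [← h, hinv] at hj
      exact absurd hj hi.not_gt
    · simpa using S.equivFin.symm.injective (Subtype.ext (ξ.injective h))
  let e : Fin S.card × Bool ↪ Fin n := ⟨f, hf⟩
  have hsupp : ξ.support = Finset.univ.map e := by
    ext x
    simp only [Perm.mem_support, Finset.mem_map, Finset.mem_univ, true_and]
    constructor
    · intro hx
      rcases lt_or_gt_of_ne hx with h | h
      · refine ⟨(S.equivFin ⟨ξ x, hmem.2 (by rwa [hinv])⟩, true), ?_⟩
        simp [e, f, hinv]
      · refine ⟨(S.equivFin ⟨x, hmem.2 h⟩, false), ?_⟩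
        simp [e, f]
    · rintro ⟨⟨i, b⟩, rfl⟩
      have hi := hmem.1 (S.equivFin.symm i).2
      show ξ (f (i, b)) ≠ f (i, b)
      cases b <;> simp [f, hinv, hi.ne, hi.ne']
  refine ⟨S.card, ?_, ⟨⟨e, fun i b => ?_, fun x hx => ?_⟩⟩⟩
  · rw [hsupp, Finset.card_map, Finset.card_univ, Fintype.card_prod, Fintype.card_fin, Fintype.card_bool]
    ring
  · show ξ (f (i, b)) = f (i, !b)
    cases b <;> simp [f, hinv]
  · by_contra h
    have h' : x ∈ ξ.support := Perm.mem_support.2 h
    rw [hsupp, Finset.mem_map] at h'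
    obtain ⟨w, -, rfl⟩ := h'
    exact hx ⟨w, rfl⟩

namespace Pairing

variable {ξ : Perm (Fin n)} (P : Pairing ξ t)

theorem moved (i : Fin t) (b : Bool) : ξ (P.e (i, b)) ≠ P.e (i, b) := by
  rw [P.swap_e]
  exact fun h => by simpa using P.e.injective h

theorem mem_iff (x : Fin n) : x ∈ Set.range P.e ↔ ξ x ≠ x := by
  refine ⟨?_, fun h => not_not.1 fun hx => h (P.fix x hx)⟩
  rintro ⟨⟨i, b⟩, rfl⟩
  exact P.moved i b

variable {σ : Perm (Fin n)}

theorem exists_target (hσ : Commute σ ξ) (i : Fin t) :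
    ∃ j, ∀ b, ∃ b', σ (P.e (i, b)) = P.e (j, b') := by
  have hc : ∀ x, σ (ξ x) = ξ (σ x) := fun x => DFunLike.congr_fun hσ.eq x
  obtain ⟨⟨j, b'⟩, hj⟩ : σ (P.e (i, false)) ∈ Set.range P.e := by
    rw [P.mem_iff, ← hc]
    exact σ.injective.ne (P.moved i false)
  refine ⟨j, fun b => ?_⟩
  cases b
  · exact ⟨b', hj.symm⟩
  · refine ⟨!b', ?_⟩
    rw [← P.swap_e, hj, ← hc, P.swap_e]
    rfl

/-- The image of a pair. -/
noncomputable def actFun (hσ : Commute σ ξ) (i : Fin t) : Fin t := (P.exists_target hσ i).choose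

theorem actFun_eq (hσ : Commute σ ξ) {i j : Fin t} {b b' : Bool} (h : σ (P.e (i, b)) = P.e (j, b')) :
    P.actFun hσ i = j := by
  obtain ⟨c, hc⟩ := (P.exists_target hσ i).choose_spec b
  rw [h] at hc
  exact (congrArg Prod.fst (P.e.injective hc)).symm

theorem actFun_spec (hσ : Commute σ ξ) (i : Fin t) (b : Bool) :
    ∃ b', σ (P.e (i, b)) = P.e (P.actFun hσ i, b') := (P.exists_target hσ i).choose_spec b

/-- The action of the centralizer on the pairs. -/
noncomputable def act : Subgroup.centralizer ({ξ} : Set (Perm (Fin n))) →* Perm (Fin t) := by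
  refine MonoidHom.mk' (fun σ => ?_) ?_
  · have hσ : Commute (σ : Perm (Fin n)) ξ := Subgroup.mem_centralizer_singleton_iff.1 σ.2
    refine Equiv.ofBijective (P.actFun hσ) ((Finite.injective_iff_bijective).1 fun i j h => ?_)
    obtain ⟨b, hb⟩ := P.actFun_spec hσ i false
    obtain ⟨c, hc⟩ := P.actFun_spec hσ j false
    rw [h] at hb
    rcases Bool.eq_or_eq_not b c with hbc | hbc
    · rw [hbc, ← hc] at hb
      simpa using P.e.injective ((σ : Perm (Fin n)).injective hb)
    · have e1 : (σ : Perm (Fin n)) (P.e (i, false)) = (σ : Perm (Fin n)) (P.e (j, true)) := by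
        have e2 := DFunLike.congr_fun hσ.eq (P.e (j, false))
        rw [Perm.mul_apply, Perm.mul_apply, P.swap_e] at e2
        rw [hb, hbc, ← P.swap_e, ← hc, ← e2]
        rfl
      simpa using congrArg Prod.fst (P.e.injective ((σ : Perm (Fin n)).injective e1))
  · intro σ τ
    ext i : 1
    have hσ : Commute (σ : Perm (Fin n)) ξ := Subgroup.mem_centralizer_singleton_iff.1 σ.2
    have hτ : Commute (τ : Perm (Fin n)) ξ := Subgroup.mem_centralizer_singleton_iff.1 τ.2
    obtain ⟨b, hb⟩ := P.actFun_spec hτ i false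
    obtain ⟨c, hc⟩ := P.actFun_spec hσ (P.actFun hτ i) b
    refine P.actFun_eq (Subgroup.mem_centralizer_singleton_iff.1 (σ * τ).2) (b := false) (b' := c) ?_
    rw [Subgroup.coe_mul, Perm.mul_apply, hb, hc]
    rfl

theorem act_eq (hσ : σ ∈ Subgroup.centralizer ({ξ} : Set (Perm (Fin n)))) {i j : Fin t} {b b' : Bool}
    (h : σ (P.e (i, b)) = P.e (j, b')) : P.act ⟨σ, hσ⟩ i = j :=
  P.actFun_eq (Subgroup.mem_centralizer_singleton_iff.1 hσ) h

theorem act_spec (σ : Subgroup.centralizer ({ξ} : Set (Perm (Fin n)))) (i : Fin t) (b : Bool) :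
    ∃ b', (σ : Perm (Fin n)) (P.e (i, b)) = P.e (P.act σ i, b') :=
  P.actFun_spec (Subgroup.mem_centralizer_singleton_iff.1 σ.2) i b

/-- The permutation of points induced by a permutation of pairs. -/
noncomputable def block : Perm (Fin t) →* Perm (Fin n) :=
  (Perm.viaEmbeddingHom P.e).comp
    { toFun := fun ρ => Equiv.prodCongr ρ (Equiv.refl Bool)
      map_one' := by ext ⟨i, b⟩ <;> rfl
      map_mul' := fun ρ τ => by ext ⟨i, b⟩ <;> rfl }

theorem block_e (ρ : Perm (Fin t)) (i : Fin t) (b : Bool) :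
    P.block ρ (P.e (i, b)) = P.e (ρ i, b) :=
  Perm.viaEmbedding_apply (Equiv.prodCongr ρ (Equiv.refl Bool)) P.e (i, b)

theorem block_out (ρ : Perm (Fin t)) (x : Fin n) (hx : x ∉ Set.range P.e) : P.block ρ x = x :=
  Perm.viaEmbedding_apply_of_notMem _ _ x hx

theorem block_comm (ρ : Perm (Fin t)) : Commute (P.block ρ) ξ := by
  ext x : 1
  rw [Perm.mul_apply, Perm.mul_apply]
  by_cases hx : x ∈ Set.range P.e
  · obtain ⟨⟨i, b⟩, rfl⟩ := hx
    rw [P.swap_e, P.block_e, P.block_e, P.swap_e]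
  · rw [P.fix x hx, P.block_out ρ x hx, P.fix x hx]

/-- The interchange of the two points of a pair. -/
def flip (i : Fin t) : Perm (Fin n) := swap (P.e (i, false)) (P.e (i, true))

theorem flip_self (i : Fin t) (b : Bool) : P.flip i (P.e (i, b)) = P.e (i, !b) := by
  cases b
  · exact swap_apply_left _ _
  · exact swap_apply_right _ _

theorem flip_other {i j : Fin t} (h : j ≠ i) (b : Bool) : P.flip i (P.e (j, b)) = P.e (j, b) :=
  swap_apply_of_ne_of_ne (fun e => h (congrArg Prod.fst (P.e.injective e)))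
    (fun e => h (congrArg Prod.fst (P.e.injective e)))

theorem flip_out (i : Fin t) {x : Fin n} (hx : x ∉ Set.range P.e) : P.flip i x = x :=
  swap_apply_of_ne_of_ne (fun e => hx ⟨_, e.symm⟩) (fun e => hx ⟨_, e.symm⟩)

theorem flip2_left {i j : Fin t} (h : i ≠ j) (b : Bool) :
    (P.flip i * P.flip j) (P.e (i, b)) = P.e (i, !b) := by
  rw [Perm.mul_apply, P.flip_other h, P.flip_self]

theorem flip2_right {i j : Fin t} (h : i ≠ j) (b : Bool) :
    (P.flip i * P.flip j) (P.e (j, b)) = P.e (j, !b) := by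
  rw [Perm.mul_apply, P.flip_self, P.flip_other h.symm]

theorem flip2_other {i j k : Fin t} (hi : k ≠ i) (hj : k ≠ j) (b : Bool) :
    (P.flip i * P.flip j) (P.e (k, b)) = P.e (k, b) := by
  rw [Perm.mul_apply, P.flip_other hj, P.flip_other hi]

theorem flip2_out (i j : Fin t) {x : Fin n} (hx : x ∉ Set.range P.e) :
    (P.flip i * P.flip j) x = x := by
  rw [Perm.mul_apply, P.flip_out j hx, P.flip_out i hx]

theorem flip2_sign {i j : Fin t} : sign (P.flip i * P.flip j) = 1 := by
  rw [map_mul, flip, flip, sign_swap (fun e => by simpa using P.e.injective e),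
    sign_swap (fun e => by simpa using P.e.injective e)]
  rfl

theorem flip_conj (σ : Subgroup.centralizer ({ξ} : Set (Perm (Fin n)))) (i : Fin t) :
    (σ : Perm (Fin n)) * P.flip i * (σ : Perm (Fin n))⁻¹ = P.flip (P.act σ i) := by
  obtain ⟨b, hb⟩ := P.act_spec σ i false
  obtain ⟨c, hc⟩ := P.act_spec σ i true
  rw [flip, ← swap_apply_apply, hb, hc, flip]
  have hne : b ≠ c := fun e => by
    rw [e, ← hc] at hb
    simpa using P.e.injective ((σ : Perm (Fin n)).injective hb)
  cases b <;> cases c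
  · exact absurd rfl hne
  · rfl
  · exact swap_comm _ _
  · exact absurd rfl hne

end Pairing

namespace DAlt

variable {G : Type u} [Group G] (D : DAlt G n) {x : G} (P : Pairing (D.p x) t)

/-- A lift of a double flip commutes with the involution. -/
theorem flip2_lift_comm {i j : Fin t} (h : i ≠ j) (hx : Commute x D.z) {u : G} (hu : Commute u D.z)
    (hu' : D.p u = P.flip i * P.flip j) : Commute u x := by
  have h' : Commute u (u⁻¹ * x) := D.comm_disjoint hu (hu.inv_left.mul_left hx) fun a => by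
    by_cases ha : a ∈ Set.range P.e
    · obtain ⟨⟨k, b⟩, rfl⟩ := ha
      rcases eq_or_ne k i with rfl | hki
      · refine Or.inr ?_
        rw [D.p_mul hu.inv_left hx, D.p_inv hu, hu', Perm.mul_apply, P.swap_e, Perm.inv_eq_iff_eq,
          P.flip2_left h]
      rcases eq_or_ne k j with rfl | hkj
      · refine Or.inr ?_
        rw [D.p_mul hu.inv_left hx, D.p_inv hu, hu', Perm.mul_apply, P.swap_e, Perm.inv_eq_iff_eq,
          P.flip2_right h]
      exact Or.inl (by rw [hu', P.flip2_other hki hkj])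
    · exact Or.inl (by rw [hu', P.flip2_out i j ha])
  have := (Commute.refl u).mul_right h'
  rwa [mul_inv_cancel_left] at this

theorem exists_flip2 (i j : Fin t) : ∃ u, Commute u D.z ∧ D.p u = P.flip i * P.flip j :=
  D.surj P.flip2_sign

theorem flip2_sq {i j : Fin t} (h : i ≠ j) {u : G} (hu : Commute u D.z)
    (hu' : D.p u = P.flip i * P.flip j) : u * u = D.z := by
  have ne : ∀ {v w : Fin t × Bool}, v ≠ w → P.e v ≠ P.e w := fun h => P.e.injective.ne h
  exact D.sq_dt hu (ne (by simp)) (ne (by simp)) (ne (by simp [h])) (ne (by simp [h]))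
    (ne (by simp [h])) (ne (by simp [h])) hu'

/-- The centralizer of `z` and `x`. -/
def cent2 (x : G) : Subgroup G := Subgroup.centralizer {D.z} ⊓ Subgroup.centralizer {x}

theorem mem_cent2 {g : G} : g ∈ D.cent2 x ↔ Commute g D.z ∧ Commute g x := by
  rw [cent2, Subgroup.mem_inf, Subgroup.mem_centralizer_singleton_iff,
    Subgroup.mem_centralizer_singleton_iff]
  rfl

theorem p_mem_centralizer (hx : Commute x D.z) {g : G} (hg : Commute g D.z) (hgx : Commute g x) :
    D.p g ∈ Subgroup.centralizer ({D.p x} : Set (Perm (Fin n))) := by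
  rw [Subgroup.mem_centralizer_singleton_iff, ← D.p_mul hg hx, ← D.p_mul hx hg, hgx.eq]

/-- The permutation of pairs induced on the centralizer. -/
noncomputable def pairHom (hx : Commute x D.z) : D.cent2 x →* Perm (Fin t) :=
  P.act.comp
    { toFun := fun g => ⟨D.p g, D.p_mem_centralizer hx (D.mem_cent2.1 g.2).1 (D.mem_cent2.1 g.2).2⟩
      map_one' := Subtype.ext D.p_one
      map_mul' := fun g h => Subtype.ext (D.p_mul (D.mem_cent2.1 g.2).1 (D.mem_cent2.1 h.2).1) }

theorem pairHom_eq (hx : Commute x D.z) (g : D.cent2 x) {i j : Fin t} {b b' : Bool}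
    (h : D.p g (P.e (i, b)) = P.e (j, b')) : D.pairHom P hx g i = j :=
  P.act_eq _ h

theorem pairHom_spec (hx : Commute x D.z) (g : D.cent2 x) (i : Fin t) (b : Bool) :
    ∃ b', D.p g (P.e (i, b)) = P.e (D.pairHom P hx g i, b') :=
  P.act_spec ⟨D.p g, D.p_mem_centralizer hx (D.mem_cent2.1 g.2).1 (D.mem_cent2.1 g.2).2⟩ i b

/-- Every permutation of odd order of the pairs is induced. -/
theorem exists_pairHom_eq (hx : Commute x D.z) {ρ : Perm (Fin t)} {m : ℕ} (hm : Odd m)
    (hρ : ρ ^ m = 1) : ∃ g : D.cent2 x, (g : G) ^ m = 1 ∧ D.pairHom P hx g = ρ := by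
  obtain ⟨g, hg, hg', hgm⟩ := D.exists_odd_lift (σ := P.block ρ) hm (by rw [← map_pow, hρ, map_one])
  have hgx : Commute g x := D.comm_of_odd hg hx (hg' ▸ P.block_comm ρ)
    (hm.of_dvd_nat (orderOf_dvd_of_pow_eq_one (by rw [← D.p_pow hg, hgm, D.p_one])))
  refine ⟨⟨g, D.mem_cent2.2 ⟨hg, hgx⟩⟩, hgm, Equiv.ext fun i => ?_⟩
  refine D.pairHom_eq P hx _ (b := false) (b' := false) ?_
  show D.p g (P.e (i, false)) = _
  rw [hg', P.block_e]

theorem alternating_le_range (hx : Commute x D.z) :
    alternatingGroup (Fin t) ≤ (D.pairHom P hx).range := by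
  rw [← closure_three_cycles_eq_alternating, Subgroup.closure_le]
  intro ρ hρ
  obtain ⟨g, -, hg⟩ := D.exists_pairHom_eq P hx (ρ := ρ) (m := 3) ⟨1, rfl⟩
    (by rw [← hρ.orderOf]; exact pow_orderOf_eq_one ρ)
  exact ⟨g, hg⟩

/-- Elements fixing all pairs act commutatively on their points. -/
theorem pair_kernel_comm (hx : Commute x D.z) {g h : D.cent2 x} (hg : D.pairHom P hx g = 1)
    (hh : D.pairHom P hx h = 1) (w : Fin t × Bool) :
    D.p ((g * h * g⁻¹ * h⁻¹ : D.cent2 x) : G) (P.e w) = P.e w := by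
  have hκ : ∀ (g : D.cent2 x), D.pairHom P hx g = 1 → ∀ i : Fin t, ∃ κ : Bool,
      ∀ b, D.p g (P.e (i, b)) = P.e (i, b ^^ κ) := by
    intro g hg i
    obtain ⟨c, hc⟩ := D.pairHom_spec P hx g i false
    obtain ⟨c', hc'⟩ := D.pairHom_spec P hx g i true
    rw [hg, Perm.one_apply] at hc hc'
    have hne : c ≠ c' := fun e => by
      rw [e, ← hc'] at hc
      simpa using P.e.injective ((D.p _).injective hc)
    refine ⟨c, fun b => ?_⟩
    cases b
    · rw [hc, Bool.false_xor]
    · rw [hc']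
      cases c <;> cases c' <;> first | rfl | exact absurd rfl hne
  have key : ∀ (g h : D.cent2 x), D.pairHom P hx g = 1 → D.pairHom P hx h = 1 → ∀ w : Fin t × Bool,
      D.p g (D.p h (P.e w)) = D.p h (D.p g (P.e w)) := by
    rintro g h hg hh ⟨i, b⟩
    obtain ⟨κ, hκ1⟩ := hκ g hg i
    obtain ⟨l, hl⟩ := hκ h hh i
    rw [hl, hκ1, hκ1, hl, Bool.xor_assoc, Bool.xor_assoc, Bool.xor_comm κ l]
  have hgz := (D.mem_cent2.1 g.2).1
  have hhz := (D.mem_cent2.1 h.2).1
  push_cast
  rw [D.p_mul ((hgz.mul_left hhz).mul_left hgz.inv_left) hhz.inv_left,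
    D.p_mul (hgz.mul_left hhz) hgz.inv_left, D.p_mul hgz hhz, D.p_inv hgz, D.p_inv hhz]
  have e1 := key (g⁻¹) (h⁻¹) (by rw [map_inv, hg, inv_one]) (by rw [map_inv, hh, inv_one]) w
  push_cast at e1
  rw [D.p_inv hgz, D.p_inv hhz] at e1
  simp only [Perm.mul_apply]
  rw [e1, show D.p h ((D.p h)⁻¹ ((D.p g)⁻¹ (P.e w))) = (D.p g)⁻¹ (P.e w) from
    (D.p h).apply_symm_apply _]
  exact (D.p g).apply_symm_apply _

end DAlt

end Cfsg.Agent.Spor.DoubleAlt
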