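import Cfsg.Agent.Lib.Spor.DoubleAlt.Deg
import Cfsg.Agent.Lib.Char.ZStar

/-!
# Reduction to nine and ten points
-/

set_option autoImplicit false
set_option linter.style.haveILetI false
set_option linter.unusedSectionVars false

open Equiv Equiv.Perm

namespace Cfsg.Agent.Spor.DoubleAlt

universe u

variable {G : Type u} [Group G] [Finite G] {n : ℕ}

/-- The involution is fused to another element of its centralizer. -/
theorem exists_fused [IsSimpleGroup G] (hn : 3 ≤ n) {z : G} (hz : orderOf z = 2)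
    (hcov : IsNonsplitDoubleCover (Subgroup.centralizer ({z} : Set G)) (alternatingGroup (Fin n))) :
    ∃ g : G, Commute (g * z * g⁻¹) z ∧ g * z * g⁻¹ ≠ z := by
  classical
  by_contra hcon
  push Not at hcon
  have hiso : Cfsg.IsIsolatedInvolution z := ⟨hz, fun g hg => hcon g hg.symm⟩
  have hbot : oddCore G = ⊥ := by
    haveI : (oddCore G).Normal := inferInstanceAs (pPrimeCore 2 G).Normal
    refine (Subgroup.Normal.eq_bot_or_eq_top ‹_›).resolve_right fun htop => ?_
    have h := Char.card_oddCore_odd G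
    rw [htop, Subgroup.card_top] at h
    exact (Nat.not_even_iff_odd.2 h) (even_iff_two_dvd.2 (hz ▸ orderOf_dvd_natCard z))
  have hcent : ∀ g, z * g = g * z := fun g => by
    have h := Char.zStar_isolated hiso g
    rw [hbot, Subgroup.mem_bot, mul_inv_eq_one, mul_inv_eq_iff_eq_mul] at h
    exact h
  have hz1 : z ≠ 1 := fun e => by rw [e, orderOf_one] at hz; omega
  have hzc : z ∈ Subgroup.center G := Subgroup.mem_center_iff.2 fun g => (hcent g).symm
  have htop : Subgroup.center G = ⊤ :=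
    (Subgroup.Normal.eq_bot_or_eq_top inferInstance).resolve_left fun h =>
      hz1 (Subgroup.mem_bot.1 (h ▸ hzc))
  obtain ⟨-, ⟨e⟩, -⟩ := hcov
  have hC : Subgroup.center (Subgroup.centralizer ({z} : Set G)) = ⊤ := by
    rw [eq_top_iff]
    intro a _
    exact Subgroup.mem_center_iff.2 fun b => Subtype.ext
      (Subgroup.mem_center_iff.1 (htop ▸ Subgroup.mem_top (a : G) : (a : G) ∈ Subgroup.center G) (b : G))
  have h1 := Nat.card_congr e.toEquiv
  rw [← Subgroup.index_eq_card, hC, Subgroup.index_top] at h1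
  haveI : Nontrivial (Fin n) := Fin.nontrivial_iff_two_le.2 (by omega)
  have h2 := two_mul_nat_card_alternatingGroup (α := Fin n)
  rw [← h1, Nat.card_perm, Nat.card_fin] at h2
  have : n ≤ n.factorial := Nat.self_le_factorial n
  omega

namespace DAlt

variable (D : DAlt G n)

theorem comm_of_conj {g : G} (h : Commute (g * D.z * g⁻¹) D.z) : Commute (g⁻¹ * D.z * g) D.z := by
  have := h.map (MulAut.conj g⁻¹).toMonoidHom
  simp [mul_assoc] at this
  exact (by simpa [mul_assoc] using this.symm)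

theorem conj_ne {g : G} (h : g * D.z * g⁻¹ ≠ D.z) :
    g * D.z * g⁻¹ * (g * D.z * g⁻¹) = 1 ∧ g * D.z * g⁻¹ ≠ 1 ∧ g⁻¹ * D.z * g ≠ D.z := by
  refine ⟨?_, fun e => D.z_ne (conj_eq_one_iff.1 e), fun e => h ?_⟩
  · rw [show g * D.z * g⁻¹ * (g * D.z * g⁻¹) = g * (D.z * D.z) * g⁻¹ by group, D.sq_z]
    group
  · conv_lhs => rw [← e]
    group

/-- Every conjugate of `z` in its centralizer, other than `z`, moves eight points. -/
theorem fused_eight {g : G} (hc : Commute (g * D.z * g⁻¹) D.z) (hne : g * D.z * g⁻¹ ≠ D.z) :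
    (D.p (g * D.z * g⁻¹)).support.card = 8 :=
  D.few_pairs hc (D.conj_ne hne).1 (D.conj_ne hne).2.1 hne (g := g⁻¹) (by group)

theorem le_eleven {g : G} (hc : Commute (g * D.z * g⁻¹) D.z) (hne : g * D.z * g⁻¹ ≠ D.z) : n ≤ 11 := by
  classical
  set x := g * D.z * g⁻¹ with hx
  have hx2 := (D.conj_ne hne).1
  have h8 : (D.p x).support.card = 8 := D.fused_eight hc hne
  set w := g⁻¹ * D.z * (g⁻¹)⁻¹ with hw
  have hwc : Commute w D.z := by rw [hw, inv_inv]; exact D.comm_of_conj hc
  have hwne : w ≠ D.z := by rw [hw, inv_inv]; exact (D.conj_ne hne).2.2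
  have hw2 : w * w = 1 := (D.conj_ne hwne).1
  have hw8 : (D.p w).support.card = 8 := D.fused_eight hwc hwne
  obtain ⟨t, ht, ⟨P⟩⟩ := exists_pairing (ξ := D.p x) (by rw [← D.p_mul hc hc, hx2, D.p_one])
  obtain ⟨t', ht', ⟨P'⟩⟩ := exists_pairing (ξ := D.p w) (by rw [← D.p_mul hwc hwc, hw2, D.p_one])
  obtain rfl : t = 4 := by omega
  obtain rfl : t' = 4 := by omega
  have hgx : g⁻¹ * x * (g⁻¹)⁻¹ = D.z := by rw [hx]; group
  have h1 := D.le_twelve hc P hwc P' hgx hw.symm
  have h2 := D.ne_twelve hc P hwc P' hgx hw.symm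
  omega

end DAlt

end Cfsg.Agent.Spor.DoubleAlt
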