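import Cfsg.Agent.Lib.Fusion.IsolatedSylow

/-!
# Groups in which an involution has few commuting involutions
-/

set_option autoImplicit false
set_option linter.style.haveILetI false
set_option linter.unusedSectionVars false

open Cfsg
open scoped Pointwise

namespace Cfsg.Agent.Spor.DoubleAlt

universe u

variable {G : Type u} [Group G] [Finite G]

/-- If the only involution of `X` commuting with `t` is `t`, a 2-subgroup of `X` through `t`
centralizes it. -/
theorem sylow_central {X : Subgroup G} {t : G} (ht : t ∈ X) (ht2 : t * t = 1) (ht1 : t ≠ 1)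
    (hun : ∀ u ∈ X, Commute u t → u * u = 1 → u = 1 ∨ u = t) {P : Subgroup X} (hP : IsPGroup 2 P)
    (htP : (⟨t, ht⟩ : X) ∈ P) : ∀ g ∈ P, Commute (g : G) t := by
  haveI : Fact (Nat.Prime 2) := ⟨Nat.prime_two⟩
  haveI : Nontrivial P := ⟨⟨⟨⟨t, ht⟩, htP⟩, 1, fun e => ht1 (congrArg (fun v : P => ((v : X) : G)) e)⟩⟩
  haveI := hP.center_nontrivial
  obtain ⟨w, hw⟩ := exists_prime_orderOf_dvd_card' (G := Subgroup.center P) 2 (by
    obtain ⟨k, hk⟩ := (hP.to_subgroup (Subgroup.center P)).exists_card_eq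
    have : 1 < Nat.card (Subgroup.center P) := Finite.one_lt_card
    rcases Nat.eq_zero_or_pos k with rfl | hk0
    · simp [hk] at this
    · exact hk ▸ dvd_pow_self 2 hk0.ne')
  have hw2 : (((w : P) : X) : G) * (((w : P) : X) : G) = 1 := by
    have h : w ^ 2 = 1 := by rw [← hw]; exact pow_orderOf_eq_one w
    rw [pow_two] at h
    exact congrArg (fun v : Subgroup.center P => (((v : P) : X) : G)) h
  have hwne : (((w : P) : X) : G) ≠ 1 := fun e => by
    rw [show w = 1 from Subtype.ext (Subtype.ext (Subtype.ext e)), orderOf_one] at hw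
    omega
  have hwc : ∀ g : P, Commute ((g : X) : G) (((w : P) : X) : G) := fun g =>
    congrArg (fun v : P => ((v : X) : G)) (Subgroup.mem_center_iff.1 w.2 g)
  have hwt : (((w : P) : X) : G) = t :=
    (hun _ (w : P).1.2 (hwc ⟨_, htP⟩).symm hw2).resolve_left hwne
  exact fun g hg => hwt ▸ hwc ⟨g, hg⟩

/-- Two commuting involutions of such a group coincide. -/
theorem commuting_involutions_eq {X : Subgroup G} {t : G} (ht : t ∈ X) (ht2 : t * t = 1) (ht1 : t ≠ 1)
    (hun : ∀ u ∈ X, Commute u t → u * u = 1 → u = 1 ∨ u = t) {u v : G} (hu : u ∈ X) (hv : v ∈ X)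
    (hu2 : u * u = 1) (hv2 : v * v = 1) (hu1 : u ≠ 1) (hv1 : v ≠ 1) (huv : Commute u v) : u = v := by
  haveI : Fact (Nat.Prime 2) := ⟨Nat.prime_two⟩
  have ho : ∀ {w : X}, (w : G) * w = 1 → (w : G) ≠ 1 → orderOf w = 2 := fun {w} h h1 =>
    orderOf_eq_prime (Subtype.ext (by rw [pow_two]; exact h)) (fun e => h1 (congrArg Subtype.val e))
  have hto : orderOf (⟨t, ht⟩ : X) = 2 := ho ht2 ht1
  obtain ⟨P, hP⟩ := (IsPGroup.of_card (n := 1) (by rw [Nat.card_zpowers, hto, pow_one]) :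
    IsPGroup 2 (Subgroup.zpowers (⟨t, ht⟩ : X))).exists_le_sylow
  have hc := sylow_central ht ht2 ht1 hun P.isPGroup' (hP (Subgroup.mem_zpowers _))
  obtain ⟨Q, hQ⟩ := (Fusion.isPGroup_closure_commuting (ho (w := ⟨u, hu⟩) hu2 hu1)
    (ho (w := ⟨v, hv⟩) hv2 hv1) (Subtype.ext huv.eq)).exists_le_sylow
  obtain ⟨g, hg⟩ := MulAction.exists_smul_eq X Q P
  have key : ∀ w : X, w ∈ Q → (w : G) * w = 1 → (w : G) ≠ 1 → (g : G) * w * (g : G)⁻¹ = t := by
    intro w hw hw2 hw1
    have hmem : g * w * g⁻¹ ∈ P := by rw [← hg]; exact ⟨w, hw, rfl⟩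
    have h := hun _ (g * w * g⁻¹).2 (hc _ hmem) (by
      push_cast
      rw [show (g : G) * w * (g : G)⁻¹ * ((g : G) * w * (g : G)⁻¹) = (g : G) * (w * w) * (g : G)⁻¹ by group,
        hw2, mul_one, mul_inv_cancel])
    push_cast at h
    exact h.resolve_left fun e => hw1 (conj_eq_one_iff.1 e)
  have h1 := key ⟨u, hu⟩ (hQ (Subgroup.subset_closure (by simp))) hu2 hu1
  have h2 := key ⟨v, hv⟩ (hQ (Subgroup.subset_closure (by simp))) hv2 hv1
  exact mul_left_cancel (mul_right_cancel (h1.trans h2.symm))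

/-- A 2-subgroup of a group in which the centralizer of `t` has 2-part `⟨t⟩` has order at most two. -/
theorem two_group_small {X : Subgroup G} {t : G} (ht : t ∈ X) (ht2 : t * t = 1) (ht1 : t ≠ 1)
    (hun : ∀ u ∈ X, Commute u t → (u * u = 1 ∨ u * u = t) → u = 1 ∨ u = t) (P : Sylow 2 X)
    (htP : (⟨t, ht⟩ : X) ∈ P) : ∀ g ∈ P, g = 1 ∨ g = ⟨t, ht⟩ := by
  haveI : Fact (Nat.Prime 2) := ⟨Nat.prime_two⟩
  have hc := sylow_central ht ht2 ht1 (fun u hu hut h => hun u hu hut (Or.inl h)) P.isPGroup' htP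
  intro g hg
  obtain ⟨k, hk⟩ := P.isPGroup' ⟨g, hg⟩
  replace hk : (g : G) ^ 2 ^ k = 1 := congrArg (fun v : P => ((v : X) : G)) hk
  have hpow : ∀ (k : ℕ) (u : G), u ∈ X → Commute u t → u ^ 2 ^ k = 1 → u = 1 ∨ u = t := by
    intro k
    induction k with
    | zero => exact fun u _ _ h => Or.inl (by simpa using h)
    | succ k ih =>
      intro u hu hut h
      have h' : (u * u) ^ 2 ^ k = 1 := by
        rw [← pow_two, ← pow_mul, mul_comm, ← pow_succ]; exact h
      exact hun u hu hut (ih (u * u) (mul_mem hu hu) (hut.mul_left hut) h')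
  exact (hpow k g g.2 (hc g hg) hk).imp (fun e => Subtype.ext e) (fun e => Subtype.ext e)

/-- In that situation there is a normal complement of odd order. -/
theorem exists_odd_complement {X : Subgroup G} {t : G} (ht : t ∈ X) (ht2 : t * t = 1) (ht1 : t ≠ 1)
    (hun : ∀ u ∈ X, Commute u t → (u * u = 1 ∨ u * u = t) → u = 1 ∨ u = t) :
    ∃ M : Subgroup G, M ≤ X ∧ Odd (Nat.card M) ∧ X ≤ Subgroup.normalizer (M : Set G) ∧
      (∀ g ∈ X, g ∈ M ∨ g * t ∈ M) ∧ ∀ g ∈ X, Odd (orderOf g) → g ∈ M := by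
  haveI : Fact (Nat.Prime 2) := ⟨Nat.prime_two⟩
  have hto : orderOf (⟨t, ht⟩ : X) = 2 :=
    orderOf_eq_prime (Subtype.ext (by rw [pow_two]; exact ht2)) (fun e => ht1 (congrArg Subtype.val e))
  obtain ⟨P, hP⟩ := (IsPGroup.of_card (n := 1) (by rw [Nat.card_zpowers, hto, pow_one]) :
    IsPGroup 2 (Subgroup.zpowers (⟨t, ht⟩ : X))).exists_le_sylow
  have htP : (⟨t, ht⟩ : X) ∈ P := hP (Subgroup.mem_zpowers _)
  have hPm := two_group_small ht ht2 ht1 hun P htP
  have hnorm : Subgroup.normalizer ((P : Subgroup X) : Set X) ≤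
      Subgroup.centralizer ((P : Subgroup X) : Set X) := by
    intro y hy
    have hyt : y * ⟨t, ht⟩ * y⁻¹ = ⟨t, ht⟩ :=
      (hPm _ ((Subgroup.mem_normalizer_iff.1 hy _).1 htP)).resolve_left fun e =>
        ht1 (congrArg Subtype.val (conj_eq_one_iff.1 e))
    refine Subgroup.mem_centralizer_iff.2 fun p hp => ?_
    rcases hPm p hp with rfl | rfl
    · rw [one_mul, mul_one]
    · exact (mul_inv_eq_iff_eq_mul.1 hyt).symm
  obtain ⟨N, hN⟩ : ∃ N, N = (MonoidHom.transferSylow P hnorm).ker := ⟨_, rfl⟩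
  have hNn : N.Normal := hN ▸ MonoidHom.normal_ker _
  refine ⟨N.map X.subtype, Subgroup.map_subtype_le _, ?_, ?_, ?_, ?_⟩
  · rw [Solv.card_map_subtype, hN]
    exact Nat.odd_iff.2 (Nat.two_dvd_ne_zero.1 (MonoidHom.not_dvd_card_ker_transferSylow P hnorm))
  · intro y hy
    refine Subgroup.mem_normalizer_iff.2 fun g => ⟨?_, ?_⟩
    · rintro ⟨k, hk, rfl⟩
      exact ⟨⟨y, hy⟩ * k * ⟨y, hy⟩⁻¹, hNn.conj_mem k hk _, by simp⟩
    · rintro ⟨k, hk, hke⟩
      refine ⟨⟨y, hy⟩⁻¹ * k * ⟨y, hy⟩⁻¹⁻¹, hNn.conj_mem k hk _, ?_⟩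
      simp only [Subgroup.coe_subtype] at hke
      simp [hke, mul_assoc]
  · intro g hg
    obtain ⟨⟨o, s⟩, hos⟩ := (MonoidHom.ker_transferSylow_isComplement' P hnorm).2 ⟨g, hg⟩
    rcases hPm s s.2 with e | e
    · exact Or.inl ⟨o, hN ▸ o.2, by simpa [e] using congrArg Subtype.val hos⟩
    · refine Or.inr ⟨o, hN ▸ o.2, ?_⟩
      have h := congrArg Subtype.val hos
      simp only [e, Subgroup.coe_mul] at h
      rw [Subgroup.coe_subtype, ← h, mul_assoc, ht2, mul_one]
  · intro g hg hodd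
    refine ⟨⟨g, hg⟩, ?_, rfl⟩
    have hodd' : Odd (orderOf (⟨g, hg⟩ : X)) := by rwa [← Subgroup.orderOf_coe]
    rw [hN, SetLike.mem_coe, MonoidHom.mem_ker, ← orderOf_eq_one_iff]
    obtain ⟨i, hi⟩ := P.2 (MonoidHom.transferSylow P hnorm ⟨g, hg⟩)
    exact Nat.eq_one_of_dvd_coprimes (Nat.Coprime.pow_right i hodd'.coprime_two_right)
      (orderOf_map_dvd _ _) (orderOf_dvd_of_pow_eq_one hi)

/-- An isolated involution: the centralizer covers the quotient by the odd core. -/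
theorem odd_core_factor {X : Subgroup G} {t : G} (ht : t ∈ X) (ht2 : t * t = 1) (ht1 : t ≠ 1)
    (hun : ∀ u ∈ X, Commute u t → u * u = 1 → u = 1 ∨ u = t) :
    ∃ O : Subgroup G, O ≤ X ∧ Odd (Nat.card O) ∧ X ≤ Subgroup.normalizer (O : Set G) ∧
      (∀ g ∈ Subgroup.normalizer (X : Set G), g ∈ Subgroup.normalizer (O : Set G)) ∧
      (∀ N ≤ X, Odd (Nat.card N) → X ≤ Subgroup.normalizer (N : Set G) → N ≤ O) ∧
      ∀ g ∈ X, ∃ o ∈ O, Commute (o⁻¹ * g) t := by
  haveI : Fact (Nat.Prime 2) := ⟨Nat.prime_two⟩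
  set tX : X := ⟨t, ht⟩
  have hto : orderOf tX = 2 :=
    orderOf_eq_prime (Subtype.ext (by rw [pow_two]; exact ht2)) (fun e => ht1 (congrArg Subtype.val e))
  have hiso : Cfsg.IsIsolatedInvolution tX := by
    refine ⟨hto, fun g hg => Subtype.ext ?_⟩
    have hg' : Commute ((g * tX * g⁻¹ : X) : G) t := (congrArg Subtype.val hg.eq).symm
    refine (hun _ (g * tX * g⁻¹).2 hg' ?_).resolve_left fun e => ?_
    · push_cast
      rw [show (g : G) * t * (g : G)⁻¹ * ((g : G) * t * (g : G)⁻¹) = (g : G) * (t * t) * (g : G)⁻¹ by group,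
        ht2, mul_one, mul_inv_cancel]
    · push_cast at e
      exact ht1 (conj_eq_one_iff.1 e)
  haveI hcn : (oddCore X).Normal := inferInstanceAs (pPrimeCore 2 X).Normal
  set O := (oddCore X).map X.subtype with hO
  refine ⟨O, Subgroup.map_subtype_le _, by rw [hO, Solv.card_map_subtype]; exact Char.card_oddCore_odd X,
    ?_, ?_, ?_, ?_⟩
  · intro y hy
    refine Subgroup.mem_normalizer_iff.2 fun g => ⟨?_, ?_⟩
    · rintro ⟨k, hk, rfl⟩
      exact ⟨⟨y, hy⟩ * k * ⟨y, hy⟩⁻¹, hcn.conj_mem k hk _, by simp⟩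
    · rintro ⟨k, hk, hke⟩
      refine ⟨⟨y, hy⟩⁻¹ * k * ⟨y, hy⟩⁻¹⁻¹, hcn.conj_mem k hk _, ?_⟩
      simp only [Subgroup.coe_subtype] at hke
      simp [hke, mul_assoc]
  · intro g hg
    refine Solv.mem_normalizer_of_conj_smul ?_
    have hle : MulAut.conj g • O ≤ X := by
      refine le_trans (Subgroup.pointwise_smul_le_pointwise_smul_iff.2 (Subgroup.map_subtype_le _)) ?_
      rw [Solv.conj_smul_of_mem_normalizer hg]
    set N := (MulAut.conj g • O).subgroupOf X with hN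
    have hodd : Odd (Nat.card N) := by
      rw [hN, Nat.card_congr (Subgroup.subgroupOfEquivOfLe hle).toEquiv, Solv.card_conj_smul, hO,
        Solv.card_map_subtype]
      exact Char.card_oddCore_odd X
    haveI : N.Normal := by
      refine ⟨fun a ha y => Subgroup.mem_subgroupOf.2 ?_⟩
      obtain ⟨o, ho, hoa⟩ := (Subgroup.mem_subgroupOf.1 ha : (a : G) ∈ MulAut.conj g • O)
      have hy' : g⁻¹ * (y : G) * g ∈ X := by
        have := (Subgroup.mem_normalizer_iff.1 (inv_mem hg) (y : G)).1 y.2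
        rwa [inv_inv] at this
      obtain ⟨k, hk, rfl⟩ := ho
      refine ⟨X.subtype (⟨_, hy'⟩ * k * ⟨_, hy'⟩⁻¹), ⟨_, hcn.conj_mem k hk _, rfl⟩, ?_⟩
      push_cast
      rw [← hoa]
      simp [mul_assoc]
    have hNle : N ≤ oddCore X := Fusion.le_pPrimeCore (by
      exact Nat.Coprime.symm (Nat.prime_two.coprime_iff_not_dvd.2 (fun h => (Nat.not_even_iff_odd.2 hodd)
        (even_iff_two_dvd.2 h))))
    refine Subgroup.eq_of_le_of_card_ge ?_ (Solv.card_conj_smul _ _).ge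
    calc MulAut.conj g • O = N.map X.subtype := (Subgroup.map_subgroupOf_eq_of_le hle).symm
      _ ≤ O := Subgroup.map_mono hNle
  · intro N hNX hodd hXN g hg
    haveI : (N.subgroupOf X).Normal := Subgroup.normal_subgroupOf_of_le_normalizer hXN
    have hco : (Nat.card (N.subgroupOf X)).Coprime 2 := by
      rw [Nat.card_congr (Subgroup.subgroupOfEquivOfLe hNX).toEquiv]
      exact hodd.coprime_two_right
    exact ⟨⟨g, hNX hg⟩, Fusion.le_pPrimeCore hco (Subgroup.mem_subgroupOf.2 hg), rfl⟩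
  · intro g hg
    set gX : X := ⟨g, hg⟩
    obtain ⟨s, hs, hst⟩ := Fusion.isolated_exists_zpowers hiso gX
    have hrO : tX * (gX * tX * gX⁻¹) ∈ oddCore X := by
      have h := Char.zStar_isolated hiso gX
      rwa [show tX * gX * tX⁻¹ * gX⁻¹ = tX * (gX * tX * gX⁻¹) by
        rw [show tX⁻¹ = tX from inv_eq_of_mul_eq_one_right (Subtype.ext ht2)]; group] at h
    refine ⟨((s⁻¹ : X) : G), ⟨s⁻¹, inv_mem (Subgroup.zpowers_le.2 hrO hs), rfl⟩, ?_⟩
    have h1 : (s * gX) * tX = tX * (s * gX) := by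
      conv_rhs => rw [← hst]
      group
    simpa [Commute, SemiconjBy, gX, tX] using congrArg Subtype.val h1

/-- A finite set with a semiregular action. -/
theorem dvd_card_of_free {M α : Type*} [Group M] [Finite M] [MulAction M α] [Finite α]
    (h : ∀ (g : M) (y : α), g • y = y → g = 1) : Nat.card M ∣ Nat.card α := by
  letI := Fintype.ofFinite (Quotient (MulAction.orbitRel M α))
  rw [Nat.card_congr (MulAction.selfEquivSigmaOrbitsQuotientStabilizer M α), Nat.card_sigma]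
  refine Finset.dvd_sum fun ω _ => ?_
  have hs : MulAction.stabilizer M ω.out = ⊥ :=
    (Subgroup.eq_bot_iff_forall _).2 fun g hg => h g _ (MulAction.mem_stabilizer_iff.1 hg)
  rw [← Subgroup.index_eq_card, hs, Subgroup.index_bot]

/-- A subgroup acting semiregularly by conjugation on a set of elements. -/
theorem dvd_card_conj_free (Q : Subgroup G) (S : Set G) (hS : ∀ g ∈ Q, ∀ y ∈ S, g * y * g⁻¹ ∈ S)
    (hfree : ∀ g ∈ Q, ∀ y ∈ S, g * y * g⁻¹ = y → g = 1) : Nat.card Q ∣ Nat.card S := by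
  letI : MulAction Q S :=
    { smul := fun g y => ⟨g * y * (g : G)⁻¹, hS g g.2 y y.2⟩
      one_smul := fun y => Subtype.ext (by show ((1 : Q) : G) * y * ((1 : Q) : G)⁻¹ = y; simp)
      mul_smul := fun g k y => Subtype.ext (by
        show ((g * k : Q) : G) * y * ((g * k : Q) : G)⁻¹ = g * (k * y * (k : G)⁻¹) * (g : G)⁻¹
        push_cast; group) }
  exact dvd_card_of_free fun g y e => Subtype.ext (hfree g g.2 y y.2 (congrArg Subtype.val e))

end Cfsg.Agent.Spor.DoubleAlt
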